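import Cfsg.Agent.Lib.SixteenNine.Principal
import Mathlib

/-!
# The principal 2-block with `E₁₆` and inertial index nine has sixteen characters and rank nine
-/

set_option autoImplicit false
set_option linter.unusedSectionVars false

namespace Cfsg.Agent.Lib.SixteenNine

open Cfsg
open Cfsg.Agent.Lib
open Cfsg.Agent.Lib.BrauerPairs
open Cfsg.Agent.Lib.AbelianStar
open Cfsg.Agent.Lib.Blocks
open Cfsg.Agent.Lib.NilBlock (bu bu_fst con)
open scoped ComplexConjugate

universe u

attribute [local instance] Classical.propDecidable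

variable {G : Type u} [Group G] [Fintype G] {M : Ideal AlgInt} [M.IsPrime] [Fact (Nat.Prime 2)]
  (hM : IsPModular 2 M) (P : Sylow 2 G)
  (hP : Nat.card (P : Subgroup G) = 16) (hsq : ∀ w : (P : Subgroup G), (w : G) ^ 2 = 1)
  (hab : ∀ x ∈ (P : Subgroup G), ∀ y ∈ (P : Subgroup G), x * y = y * x)
  (h9 : Nat.card (autImage (P : Subgroup G)) = 9)
  {X Y : Subgroup (P : Subgroup G)} (hsplit : Split (autImage (P : Subgroup G)) X Y)

include hM hab hsplit in
theorem orb_factor (a : (P : Subgroup G)) (ha : a ∈ X) (ha1 : a ≠ 1) :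
    orb (principalPair M (P : Subgroup G)) a =
      (Finset.univ.filter fun v : (P : Subgroup G) => v ∈ X).erase 1 := by
  ext v
  rw [mem_orb, Finset.mem_erase, Finset.mem_filter]
  constructor
  · rintro ⟨y, hy, hyv⟩
    have hyN := (inStab_principal_iff (M := M) y).1 hy
    set α := Subgroup.normalizerMonoidHom (P : Subgroup G) ⟨y, hyN⟩ with hα
    have hv : α a = v := Subtype.ext hyv
    refine ⟨?_, Finset.mem_univ _, hv ▸ hsplit.invX α ⟨_, rfl⟩ a ha⟩
    exact fun h => ha1 (α.injective (by rw [hv, h, map_one]))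
  · rintro ⟨hv1, -, hv⟩
    obtain ⟨α, hα, hαv⟩ := hsplit.transX a ha ha1 v hv hv1
    obtain ⟨y, hy, hyw⟩ := mem_autImage.1 hα
    exact ⟨y, (inStab_principal_iff (M := M) y).2 hy, by rw [← hyw, hαv]⟩

include hM hP hsq hab h9 hsplit in
theorem card_principalBlock_eq (hl : 2 ≤ blockRank 2 (principalBlock M G)) :
    Nat.card (principalBlock M G) = 16 ∧ blockRank 2 (principalBlock M G) = 9 := by
  set b := principalPair M (P : Subgroup G) with hb
  set B := principalBlock M G with hB
  have hmax : IsMaximalBrauerPair 2 M B b.1 b.2 := isMaximal_principalPair hM P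
  have habb : ∀ u ∈ b.1, ∀ w ∈ b.1, u * w = w * u := hab
  have hd : blockDefect 2 B = 4 := blockDefect_eq hM P hP
  have hsqb : ∀ w : b.1, (w : G) ^ 2 = 1 := hsq
  have hcomm : ∀ u w : (P : Subgroup G), u * w = w * u := fun u w => Subtype.ext (hab u u.2 w w.2)
  have hsplit' := hsplit.symm hcomm
  -- representatives
  have hex : ∀ Z : Subgroup (P : Subgroup G), Nat.card Z = 4 → ∃ a ∈ Z, a ≠ 1 := fun Z hZ => by
    haveI : Nontrivial Z := Finite.one_lt_card_iff_nontrivial.1 (by rw [hZ]; norm_num)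
    obtain ⟨c, hc⟩ := exists_ne (1 : Z)
    exact ⟨c, c.2, fun h => hc (Subtype.ext h)⟩
  obtain ⟨x, hx, hx1⟩ := hex X hsplit.cardX
  obtain ⟨y, hy, hy1⟩ := hex Y hsplit.cardY
  set z := x * y with hz
  have hzX : z ∉ X := fun h => hy1 (by
    have : y ∈ X ⊓ Y := ⟨(X.mul_mem_cancel_left hx).1 h, hy⟩
    rwa [hsplit.inf_eq, Subgroup.mem_bot] at this)
  have hzY : z ∉ Y := fun h => hx1 (by
    have : x ∈ X ⊓ Y := ⟨hx, (Y.mul_mem_cancel_right hy).1 h⟩
    rwa [hsplit.inf_eq, Subgroup.mem_bot] at this)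
  have hzfree : ∀ g, InStab b g → g * (z : G) * g⁻¹ = z → g ∈ Subgroup.centralizer (b.1 : Set G) := by
    intro g hg hgz
    have hgN := (inStab_principal_iff (M := M) g).1 hg
    set α := Subgroup.normalizerMonoidHom (P : Subgroup G) ⟨g, hgN⟩ with hα
    have h1 : α = 1 := hsplit.free z hzX hzY α ⟨_, rfl⟩ (Subtype.ext hgz)
    refine Subgroup.mem_centralizer_iff.2 fun w hw => ?_
    have h2 : g * w * g⁻¹ = w := congrArg (fun f : MulAut (P : Subgroup G) => ((f ⟨w, hw⟩ : (P : Subgroup G)) : G)) h1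
    exact (mul_inv_eq_iff_eq_mul.1 h2).symm
  have hlz : blockRank 2 (bu 2 M b (z : G)).2 = 1 := blockRank_of_free hM hmax habb hzfree
  -- the orbit of `z`
  have horbz : (orb b z).card = 9 := by
    rw [← h9, Nat.card_eq_fintype_card, ← Finset.card_univ]
    symm
    refine Finset.card_bij (fun (α : autImage (P : Subgroup G)) _ => (α : MulAut (P : Subgroup G)) z)
      (fun α _ => ?_) (fun α _ β _ h => ?_) fun v hv => ?_
    · obtain ⟨g, hg, hgw⟩ := mem_autImage.1 α.2
      exact mem_orb.2 ⟨g, (inStab_principal_iff (M := M) g).2 hg, (hgw z).symm⟩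
    · have h1 : ((β⁻¹ * α : autImage (P : Subgroup G)) : MulAut (P : Subgroup G)) z = z := by
        change (β : MulAut (P : Subgroup G))⁻¹ ((α : MulAut (P : Subgroup G)) z) = z
        rw [h]
        exact MulEquiv.symm_apply_apply _ _
      have h2 := hsplit.free z hzX hzY _ (β⁻¹ * α).2 h1
      exact (inv_mul_eq_one.1 (Subtype.ext h2)).symm
    · obtain ⟨g, hg, hgv⟩ := mem_orb.1 hv
      exact ⟨⟨_, ⟨⟨g, (inStab_principal_iff (M := M) g).1 hg⟩, rfl⟩⟩, Finset.mem_univ _,
        Subtype.ext hgv⟩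
  have horb1 : orb b 1 = {1} := by
    obtain ⟨c, hc⟩ := Finset.card_eq_one.1 (card_orb_one hmax)
    have := self_mem_orb hmax (1 : b.1)
    rw [hc, Finset.mem_singleton] at this
    rw [hc, ← this]
  have horbx := orb_factor hM P hab hsplit x hx hx1
  have horby := orb_factor hM P hab hsplit' y hy hy1
  have hfilt : ∀ Z : Subgroup (P : Subgroup G), Nat.card Z = 4 →
      (Finset.univ.filter fun v : (P : Subgroup G) => v ∈ Z).card = 4 := fun Z hZ => by
    rw [← hZ, Nat.card_eq_fintype_card, ← Fintype.card_subtype]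
  have hXins : (Finset.univ.filter fun v : b.1 => v ∈ X) = orb b 1 ∪ orb b x := by
    rw [horb1, horbx]
    ext v
    by_cases h : v = 1 <;> simp [h]
  have hYins : (Finset.univ.filter fun v : b.1 => v ∈ Y) = orb b 1 ∪ orb b y := by
    rw [horb1, horby]
    ext v
    by_cases h : v = 1 <;> simp [h]
  -- disjointness
  have hne : ∀ u w : b.1, w ∉ orb b u → Disjoint (orb b u) (orb b w) := fun u w h =>
    Finset.disjoint_left.2 fun v hv hv' => h (by
      rw [← orb_eq hmax hv, orb_eq hmax hv']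
      exact self_mem_orb hmax w)
  have n1x : x ∉ orb b 1 := by rw [horb1, Finset.mem_singleton]; exact hx1
  have n1y : y ∉ orb b 1 := by rw [horb1, Finset.mem_singleton]; exact hy1
  have n1z : z ∉ orb b 1 := by
    rw [horb1, Finset.mem_singleton]; exact fun h => hzX (h ▸ one_mem X)
  have nxy : y ∉ orb b x := by
    rw [horbx]
    intro h
    have : y ∈ X ⊓ Y := ⟨(Finset.mem_filter.1 (Finset.mem_erase.1 h).2).2, hy⟩
    rw [hsplit.inf_eq, Subgroup.mem_bot] at this
    exact hy1 this
  have nxz : z ∉ orb b x := by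
    rw [horbx]; exact fun h => hzX (Finset.mem_filter.1 (Finset.mem_erase.1 h).2).2
  have nyz : z ∉ orb b y := by
    rw [horby]; exact fun h => hzY (Finset.mem_filter.1 (Finset.mem_erase.1 h).2).2
  have hd1 : Disjoint (orb b 1) (orb b x) := hne _ _ n1x
  have hd2 : Disjoint (orb b 1 ∪ orb b x) (orb b y) :=
    Finset.disjoint_union_left.2 ⟨hne _ _ n1y, hne _ _ nxy⟩
  have hd3 : Disjoint (orb b 1 ∪ orb b x ∪ orb b y) (orb b z) :=
    Finset.disjoint_union_left.2 ⟨Finset.disjoint_union_left.2 ⟨hne _ _ n1z, hne _ _ nxz⟩,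
      hne _ _ nyz⟩
  have hcover : orb b 1 ∪ orb b x ∪ orb b y ∪ orb b z = Finset.univ := by
    refine Finset.eq_univ_of_card _ ?_
    rw [Finset.card_union_of_disjoint hd3, Finset.card_union_of_disjoint hd2, ← hXins,
      hfilt X hsplit.cardX, horby,
      Finset.card_erase_of_mem (Finset.mem_filter.2 ⟨Finset.mem_univ _, one_mem _⟩),
      hfilt Y hsplit.cardY, horbz, ← Nat.card_eq_fintype_card]
    exact hP.symm
  -- integral matrices
  have hmat : ∀ w : b.1, ∃ m : B → B → ℤ, ∀ χ ψ : B, scaled 2 M B b w χ ψ = m χ ψ := fun w =>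
    ⟨fun χ ψ => (exists_int_scaled hM hmax habb w (hsqb w) χ ψ).choose,
      fun χ ψ => (exists_int_scaled hM hmax habb w (hsqb w) χ ψ).choose_spec⟩
  obtain ⟨A, hA⟩ := hmat x
  obtain ⟨A', hA'⟩ := hmat y
  obtain ⟨C, hC⟩ := hmat 1
  obtain ⟨v, hv, hv0, hvv⟩ := exists_column hM hmax habb hd hsqb z hlz
  have hsum : ∀ f : IrrCharacter G → ℂ, ∑ φ : B, f φ = ∑ φ ∈ B.toFinset, f φ := fun f =>
    (Finset.sum_subtype B.toFinset (fun x => Set.mem_toFinset) f).symm
  have hpow : ((2 : ℕ) : ℂ) ^ blockDefect 2 B = 16 := by rw [hd]; norm_num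
  have htot : ∀ χ ψ : B, C χ ψ + A χ ψ + A' χ ψ + v χ * v ψ = if χ = ψ then 16 else 0 := by
    intro χ ψ
    have h := sum_frm hM hmax habb χ.2 (ψ : IrrCharacter G)
    rw [← hcover, Finset.sum_union hd3, Finset.sum_union hd2, Finset.sum_union hd1,
      sum_orb_frm hM hmax, sum_orb_frm hM hmax, sum_orb_frm hM hmax, sum_orb_frm hM hmax] at h
    have e : ((C χ ψ + A χ ψ + A' χ ψ + v χ * v ψ : ℤ) : ℂ) =
        ((if χ = ψ then 16 else 0 : ℤ) : ℂ) := by
      push_cast
      rw [← hC, ← hA, ← hA', ← Int.cast_mul, ← hv]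
      simp only [scaled, hpow]
      rw [← mul_add, ← mul_add, ← mul_add, h]
      by_cases hχψ : χ = ψ
      · simp [hχψ]
      · rw [if_neg hχψ, if_neg fun h' => hχψ (Subtype.ext h'), mul_zero]
    exact_mod_cast e
  have hcong : ∀ (Z : Subgroup (P : Subgroup G)) (a : b.1) (m : B → B → ℤ),
      Split (autImage (P : Subgroup G)) Z
        (if Z = X then Y else X) → (Finset.univ.filter fun v : b.1 => v ∈ Z) = orb b 1 ∪ orb b a →
      Disjoint (orb b 1) (orb b a) → (∀ χ ψ : B, scaled 2 M B b a χ ψ = m χ ψ) →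
      ∀ χ ψ : B, 4 ∣ C χ ψ + m χ ψ := by
    intro Z a m hZ hins hdis hm χ ψ
    have hinv : ∀ g, InStab b g → ∀ w u : b.1, g * (w : G) * g⁻¹ = (u : G) → w ∈ Z → u ∈ Z := by
      intro g hg w u hwu hw
      have hgN := (inStab_principal_iff (M := M) g).1 hg
      have := hZ.invX (Subgroup.normalizerMonoidHom (P : Subgroup G) ⟨g, hgN⟩) ⟨_, rfl⟩ w hw
      rwa [show Subgroup.normalizerMonoidHom (P : Subgroup G) ⟨g, hgN⟩ w = u from Subtype.ext hwu] at this
    obtain ⟨n, hn⟩ := exists_int_sum_subgroup hM hmax habb Z hinv χ.2 (ψ : IrrCharacter G)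
    have hidx : Z.index = 4 := by
      have := Z.card_mul_index
      rw [hZ.cardX, hP] at this
      omega
    rw [hidx, hins, Finset.sum_union hdis, sum_orb_frm hM hmax, sum_orb_frm hM hmax] at hn
    refine ⟨n, ?_⟩
    have e : ((C χ ψ + m χ ψ : ℤ) : ℂ) = ((4 * n : ℤ) : ℂ) := by
      push_cast
      rw [← hC, ← hm, ← hn]
      simp only [scaled, hpow]
      push_cast
      ring
    exact_mod_cast e
  have hXY : Y ≠ X := fun h => hy1 (by
    have : y ∈ X ⊓ Y := ⟨h ▸ hy, hy⟩
    rwa [hsplit.inf_eq, Subgroup.mem_bot] at this)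
  have hcA := hcong X x A (by rw [if_pos rfl]; exact hsplit) hXins hd1 hA
  have hcA' := hcong Y y A' (by rw [if_neg hXY]; exact hsplit') hYins (hne _ _ n1y) hA'
  -- the two parts
  have hpart : ∀ (a : b.1) (m : B → B → ℤ), z ∉ orb b a → blockRank 2 (bu 2 M b (a : G)).2 = 3 →
      (∀ χ ψ : B, scaled 2 M B b a χ ψ = m χ ψ) → (∀ χ ψ, 4 ∣ m χ ψ + v χ * v ψ) → IsPart m v := by
    intro a m hza hla hm h4
    refine ⟨fun i j => ?_, fun i j => ?_, fun i => ?_, h4, ?_, fun i => ?_⟩
    · have h := scaled_conj hM hmax habb a (i : IrrCharacter G) j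
      rw [hm, hm, map_intCast] at h
      exact_mod_cast h
    · have h := scaled_idem hM hmax habb a (i : IrrCharacter G) j
      rw [← hsum, hpow, hm] at h
      simp only [hm] at h
      exact_mod_cast h
    · have h := scaled_orth hM hmax habb hza (i : IrrCharacter G) i
      rw [← hsum] at h
      simp only [hm, hv] at h
      have h' : ∑ k : B, m i k * v k * v i = 0 := by
        have : ((∑ k : B, m i k * v k * v i : ℤ) : ℂ) = 0 := by
          rw [← h]
          push_cast
          exact Finset.sum_congr rfl fun k _ => by ring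
        exact_mod_cast this
      rw [← Finset.sum_mul] at h'
      exact (mul_eq_zero.1 h').resolve_right (hv0 i)
    · have h := scaled_trace hM hmax a
      rw [← hsum fun φ => scaled 2 M B b a φ φ, hpow, hla] at h
      simp only [hm] at h
      norm_num at h
      exact_mod_cast h
    · obtain ⟨r, hr0, hr1⟩ := scaled_pos hM hmax habb a i.2
      rw [hm] at hr1
      have : (m i i : ℝ) = r := by exact_mod_cast hr1
      exact_mod_cast this.symm ▸ hr0
  have hPA := hpart x A nxz (blockRank_factor hM P hP hsq hab h9 hsplit x hx hx1) hA fun χ ψ => by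
    have h1 := htot χ ψ
    have h2 := hcA' χ ψ
    split_ifs at h1 <;> omega
  have hPA' := hpart y A' nyz (blockRank_factor hM P hP hsq hab h9 hsplit' y hy hy1) hA' fun χ ψ => by
    have h1 := htot χ ψ
    have h2 := hcA χ ψ
    split_ifs at h1 <;> omega
  have hAA' : ∀ i, ∑ k, A i k * A' i k = 0 := fun i => by
    have h := scaled_orth hM hmax habb nxy (i : IrrCharacter G) i
    rw [← hsum] at h
    simp only [hA, hA'] at h
    have h' : ∑ k : B, A i k * A' k i = 0 := by exact_mod_cast h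
    rw [← h']
    exact Finset.sum_congr rfl fun k _ => by rw [hPA'.symm i k]
  have hCpos : ∀ i, 0 < C i i := fun i => by
    obtain ⟨r, hr0, hr1⟩ := scaled_pos hM hmax habb (1 : b.1) i.2
    rw [hC] at hr1
    have : (C i i : ℝ) = r := by exact_mod_cast hr1
    exact_mod_cast this.symm ▸ hr0
  have hlt : ∀ i, A i i + A' i i + v i ^ 2 < 16 := fun i => by
    have h1 := htot i i
    rw [if_pos rfl, ← sq] at h1
    have := hCpos i
    omega
  have hl1 : blockRank 2 (bu 2 M b (((1 : b.1) : G))).2 = blockRank 2 B :=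
    blockRank_bu_of_mem_center hM hmax b.1.one_mem (Subgroup.one_mem _)
  have hCtr : ∑ i, C i i = 16 * (blockRank 2 B : ℤ) := by
    have h := scaled_trace hM hmax (1 : b.1)
    rw [← hsum fun φ => scaled 2 M B b 1 φ φ, hpow, hl1] at h
    simp only [hC] at h
    exact_mod_cast h
  have hk : (16 : ℤ) * Fintype.card B = 16 * (blockRank 2 B : ℤ) + 48 + 48 + 16 := by
    have h : ∑ i, (C i i + A i i + A' i i + v i * v i) = ∑ _i : B, (16 : ℤ) :=
      Finset.sum_congr rfl fun i _ => by rw [htot, if_pos rfl]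
    simp only [Finset.sum_add_distrib, hCtr, hPA.trace, hPA'.trace, ← sq, hvv, Finset.sum_const,
      Finset.card_univ, nsmul_eq_mul] at h
    rw [h, mul_comm]
  have h16 := card_eq_sixteen hPA hPA' hAA' hvv hv0 hlt (by omega)
  exact ⟨(Nat.card_eq_fintype_card).trans h16, by omega⟩

include hM hP hsq hab h9 in
theorem invariants :
    Nat.card (principalBlock M G) = 16 ∧ blockRank 2 (principalBlock M G) = 9 := by
  obtain ⟨X, Y, hsplit⟩ := exists_split (autImage (P : Subgroup G)) hP
    (fun w => Subtype.ext (by rw [Subgroup.coe_mul, ← sq]; exact hsq w)) h9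
  refine card_principalBlock_eq hM P hP hsq hab h9 hsplit ?_
  by_contra hlt
  have hpos := KleinBlock.blockRank_pos (p := 2) Nat.prime_two
    (BrauerMap.isPBlock_principalBlock (G := G) M)
  have h1 : blockRank 2 (principalBlock M G) = 1 := by omega
  have hcompl := BrauerMap.hasNormalPComplement_of_blockRank_eq_one hM h1
  -- every inducing element may be taken of odd order
  haveI : Nontrivial (autImage (P : Subgroup G)) :=
    Finite.one_lt_card_iff_nontrivial.1 (by rw [h9]; norm_num)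
  obtain ⟨⟨α, hα⟩, hne⟩ := exists_ne (1 : autImage (P : Subgroup G))
  refine hne (Subtype.ext ?_)
  obtain ⟨y, hy, hyw⟩ := mem_autImage.1 hα
  obtain ⟨j, m, hm, hjm⟩ := Nat.exists_eq_two_pow_mul_odd (orderOf_pos y).ne'
  have hodd : Odd (orderOf (y ^ 2 ^ j)) := by
    rw [orderOf_pow' _ (by positivity), hjm, Nat.gcd_eq_right (dvd_mul_right _ _),
      Nat.mul_div_cancel_left _ (by positivity)]
    exact hm
  have hcent := centralizes_of_hasNormalPComplement hcompl P.isPGroup' (pow_mem hy (2 ^ j)) hodd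
  have hpow : ∀ n : ℕ, ∀ w : (P : Subgroup G), ((α ^ n) w : G) = y ^ n * (w : G) * (y ^ n)⁻¹ := by
    intro n
    induction n with
    | zero => intro w; simp
    | succ n ih =>
      intro w
      rw [pow_succ, MulAut.mul_apply, ih, hyw, pow_succ]
      group
  have h2 : α ^ 2 ^ j = 1 := MulEquiv.ext fun w => Subtype.ext (by
    rw [hpow]; exact hcent _ w.2)
  have hα9 : orderOf α ∣ 9 := by
    rw [← h9, ← Subgroup.orderOf_mk α hα]
    exact orderOf_dvd_natCard _
  exact orderOf_eq_one_iff.1 (Nat.eq_one_of_dvd_coprimes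
    ((by norm_num : (9 : ℕ).Coprime 2).pow_right j) hα9 (orderOf_dvd_of_pow_eq_one h2))

end Cfsg.Agent.Lib.SixteenNine
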