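import Cfsg.Agent.Lib.AbelianStar.Trace
import Cfsg.Agent.Lib.FreeInertia.Count
import Cfsg.Agent.Lib.Contrib.Family
import Cfsg.Agent.Lib.Chars.Completeness
import Mathlib

/-!
# Scaled contribution matrices of involutions of an abelian defect group
-/

set_option autoImplicit false
set_option linter.unusedSectionVars false

namespace Cfsg.Agent.Lib.SixteenNine

open Cfsg
open Cfsg.Agent.Lib
open Cfsg.Agent.Lib.BrauerPairs
open Cfsg.Agent.Lib.AbelianStar
open Cfsg.Agent.Lib.Blocks
open Cfsg.Agent.Lib.NilBlock (bu con)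
open scoped ComplexConjugate

universe u

attribute [local instance] Classical.propDecidable

variable {G : Type u} [Group G] [Fintype G] {p : ℕ} {M : Ideal AlgInt} [Fact p.Prime] [M.IsPrime]
  {B : Set (IrrCharacter G)} {b : BrauerPairIdx G}

/-- The contribution of `w`, scaled by the order of the defect group. -/
noncomputable def scaled (p : ℕ) (M : Ideal AlgInt) (B : Set (IrrCharacter G)) (b : BrauerPairIdx G)
    (w : b.1) (χ ψ : IrrCharacter G) : ℂ :=
  (p : ℂ) ^ blockDefect p B * con p (w : G) (bu p M b w) χ ψ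

variable (hM : IsPModular p M) (hmax : IsMaximalBrauerPair p M B b.1 b.2)
  (hab : ∀ x ∈ b.1, ∀ y ∈ b.1, x * y = y * x)

include hM hmax in
theorem sum_orb_frm (w : b.1) (χ ψ : IrrCharacter G) :
    ∑ v ∈ orb b w, frm p M b v χ ψ = con p (w : G) (bu p M b w) χ ψ := by
  rw [Finset.sum_congr rfl fun v hv => frm_of_mem_orb hM hmax hv χ ψ, Finset.sum_const, frm,
    nsmul_eq_mul, mul_inv_cancel_left₀ (Nat.cast_ne_zero.2 (orb_card_pos hmax w).ne')]

include hM hmax hab in
theorem scaled_conj (w : b.1) (χ ψ : IrrCharacter G) :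
    conj (scaled p M B b w χ ψ) = scaled p M B b w ψ χ := by
  simp only [scaled, con, map_mul, map_pow, Complex.conj_natCast, Contrib.contrib_conj]

include hM hmax hab in
/-- The contributions of an element of order dividing two are integers once scaled. -/
theorem exists_int_scaled (w : b.1) (hw : (w : G) ^ 2 = 1) (χ ψ : IrrCharacter G) :
    ∃ n : ℤ, scaled p M B b w χ ψ = n := by
  have hind := NilBlock.isInducedBlock_bu hM hmax w.2
  obtain ⟨N, -, hN, -, -, -⟩ := Contrib.exists_intMatrix hM hind.1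
  have hC := NilBlock.centralizer_bu (p := p) (M := M) (b := b) (w : G)
  have hsc : ∀ φ η, ∃ k : ℤ, Contrib.secMult hC φ η = k := fun φ η => by
    obtain ⟨m, hm⟩ := Chars.isCharacter_classInner_nat (Chars.isCharacter_restrict
      (H := Subgroup.centralizer ((bu p M b (w : G)).1 : Set G)) (Chars.irr_isCharacter φ))
      (Chars.irr_isCharacter η)
    have h2 : Contrib.secScalar hC η ^ 2 = 1 := by
      rw [Contrib.secScalar_pow, show Contrib.secElt hC ^ 2 = 1 from
        Subtype.ext (by simpa [Contrib.secElt] using hw),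
        div_self (Chars.irr_apply_one_ne_zero η)]
    rcases sq_eq_one_iff.1 h2 with h | h
    · exact ⟨m, by rw [Contrib.secMult, hm, h]; push_cast; ring⟩
    · exact ⟨-(m : ℤ), by rw [Contrib.secMult, hm, h]; push_cast; ring⟩
  choose k hk using hsc
  refine ⟨∑ η ∈ (bu p M b (w : G)).2.toFinset, ∑ η' ∈ (bu p M b (w : G)).2.toFinset,
    k χ η * k ψ η' * N η η', ?_⟩
  rw [scaled, ← blockDefect_bu hM hmax hab w.2]
  refine (Contrib.pow_mul_contrib hM hC hind.1 hN χ ψ).trans ?_
  push_cast
  refine Finset.sum_congr (by simp) fun η _ => Finset.sum_congr (by simp) fun η' _ => ?_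
  rw [hk, hk, map_intCast]

include hM hmax hab in
theorem scaled_idem (w : b.1) (χ ψ : IrrCharacter G) :
    ∑ φ ∈ B.toFinset, scaled p M B b w χ φ * scaled p M B b w φ ψ =
      (p : ℂ) ^ blockDefect p B * scaled p M B b w χ ψ := by
  simp only [scaled, con]
  rw [← Contrib.sum_contrib_mul hM (NilBlock.exists_orderOf_eq hM hmax w.2)
    (NilBlock.centralizer_bu (w : G)) (NilBlock.isInducedBlock_bu hM hmax w.2) χ ψ]
  simp only [Finset.mul_sum]
  exact Finset.sum_congr rfl fun φ _ => by ring

include hM hmax hab in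
theorem scaled_orth {w v : b.1} (hne : v ∉ orb b w) (χ ψ : IrrCharacter G) :
    ∑ φ ∈ B.toFinset, scaled p M B b w χ φ * scaled p M B b v φ ψ = 0 := by
  simp only [scaled, ← sum_orb_frm hM hmax, Finset.mul_sum, Finset.sum_mul]
  rw [Finset.sum_comm]
  refine Finset.sum_eq_zero fun v' hv' => ?_
  rw [Finset.sum_comm]
  refine Finset.sum_eq_zero fun w' hw' => ?_
  have hne' : v' ∉ orb b w' := fun h => by
    rw [orb_eq hmax hw'] at h
    exact hne ((orb_eq hmax h).symm.trans (orb_eq hmax hv') ▸ self_mem_orb hmax v)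
  rw [Finset.sum_congr rfl (g := fun φ => (p : ℂ) ^ blockDefect p B * (p : ℂ) ^ blockDefect p B *
      (frm p M b w' χ φ * frm p M b v' φ ψ)) (fun φ _ => by ring),
    ← Finset.mul_sum, sum_frm_mul_eq_zero hM hmax hab hne', mul_zero]

include hM hmax in
theorem scaled_trace (w : b.1) :
    ∑ χ ∈ B.toFinset, scaled p M B b w χ χ =
      (p : ℂ) ^ blockDefect p B * (blockRank p (bu p M b (w : G)).2 : ℂ) := by
  simp only [scaled, con, ← Finset.mul_sum]
  rw [Contrib.sum_contrib_self hM (NilBlock.exists_orderOf_eq hM hmax w.2)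
    (NilBlock.centralizer_bu (w : G)) (NilBlock.isInducedBlock_bu hM hmax w.2)]

include hM hmax hab in
theorem scaled_pos (w : b.1) {χ : IrrCharacter G} (hχ : χ ∈ B) :
    ∃ r : ℝ, 0 < r ∧ scaled p M B b w χ χ = (r : ℂ) := by
  obtain ⟨r, hr, hrw⟩ := exists_pos_frm_self hM hmax hab w hχ
  refine ⟨(p : ℝ) ^ blockDefect p B * ((orb b w).card * r), ?_, ?_⟩
  · exact mul_pos (pow_pos (Nat.cast_pos.2 hM.1.pos) _)
      (mul_pos (Nat.cast_pos.2 (orb_card_pos hmax w)) hr)
  · rw [scaled, ← sum_orb_frm hM hmax, Finset.sum_congr rfl fun v hv => frm_of_mem_orb hM hmax hv χ χ,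
      Finset.sum_const, hrw, nsmul_eq_mul]
    push_cast
    ring

include hM hmax hab in
/-- The star product with the regular character of the quotient by an invariant subgroup. -/
theorem exists_int_sum_subgroup (X : Subgroup b.1)
    (hX : ∀ y, InStab b y → ∀ w v : b.1, y * (w : G) * y⁻¹ = (v : G) → w ∈ X → v ∈ X)
    {χ : IrrCharacter G} (hχ : χ ∈ B) (ψ : IrrCharacter G) :
    ∃ n : ℤ, (X.index : ℂ) * ∑ w ∈ Finset.univ.filter (· ∈ X), frm p M b w χ ψ = n := by
  let θ : b.1 → ℂ := fun w => (Nat.card (MulAction.fixedBy (b.1 ⧸ X) w) : ℂ)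
  have hθ : IsCharacter b.1 θ := Chars.isCharacter_permChar (b.1 ⧸ X)
  haveI hXn : X.Normal := ⟨fun n hn g => by
    rwa [show g * n * g⁻¹ = n from Subtype.ext (by
      show (g : G) * n * (g : G)⁻¹ = n
      rw [hab g g.2 n n.2, mul_inv_cancel_right])]⟩
  have hval : ∀ w, θ w = if w ∈ X then (X.index : ℂ) else 0 := fun w => by
    have hiff : ∀ c : b.1 ⧸ X, w • c = c ↔ w ∈ X := fun c => by
      induction c using QuotientGroup.induction_on with
      | _ g =>
        show ((w * g : b.1) : b.1 ⧸ X) = (g : b.1 ⧸ X) ↔ _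
        rw [QuotientGroup.mk_mul, mul_eq_right, QuotientGroup.eq_one_iff]
    split_ifs with h
    · simp only [θ, MulAction.fixedBy, hiff, h, Set.setOf_true, Nat.card_univ, Subgroup.index]
    · simp [θ, MulAction.fixedBy, hiff, h]
  have hinv : IsInv b θ := fun y hy w v h => by
    rw [hval, hval]
    refine if_congr ⟨fun hv => ?_, hX y hy w v h⟩ rfl rfl
    refine hX y⁻¹ (hy.inv hmax.1.1.2) v w ?_ hv
    rw [← h]; group
  refine ⟨(Chars.isGeneralizedCharacter_classInner_int
    (isGeneralizedCharacter_star hM hmax hab hθ hinv (Chars.irr_isCharacter χ))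
    (Chars.isGeneralizedCharacter_of_isCharacter (Chars.irr_isCharacter ψ))).choose, ?_⟩
  rw [← (Chars.isGeneralizedCharacter_classInner_int
    (isGeneralizedCharacter_star hM hmax hab hθ hinv (Chars.irr_isCharacter χ))
    (Chars.isGeneralizedCharacter_of_isCharacter (Chars.irr_isCharacter ψ))).choose_spec,
    classInner_star hM hmax hab hinv hχ, Finset.mul_sum, Finset.sum_filter]
  exact Finset.sum_congr rfl fun w _ => by rw [hval, ite_mul, zero_mul]

/-- A symmetric integer matrix of rank one with an odd diagonal entry and trace a power of two. -/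
theorem exists_column_of_minors {ι : Type*} [Fintype ι] (m : ι → ι → ℤ) {d : ℕ}
    (hsymm : ∀ i j, m i j = m j i) (hminor : ∀ i j k l, m i k * m j l = m i l * m j k)
    (hidem : ∀ i j, ∑ k, m i k * m k j = 2 ^ d * m i j)
    {a : ι} (ha : ¬ 2 ∣ m a a) (hpos : 0 ≤ m a a) :
    ∃ v : ι → ℤ, ∀ i j, m i j = v i * v j := by
  classical
  set g : ℤ := Finset.univ.gcd (m a) with hg
  have hgdvd : ∀ j, g ∣ m a j := fun j => Finset.gcd_dvd (Finset.mem_univ j)
  obtain ⟨q, hq⟩ := hgdvd a
  have hg0 : g ≠ 0 := fun h => ha (by rw [hq, h, zero_mul]; exact dvd_zero 2)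
  choose w hw using hgdvd
  have hprod : ∀ i j, m a a * m i j = g * g * (w i * w j) := fun i j => by
    rw [hminor a i a j, hsymm i a, hw i, hw j]
    ring
  have h1 : m a a ∣ g * g := by
    have h2 : ∀ i, m a a ∣ g * m a i := fun i => by
      have h3 : m a a ∣ Finset.univ.gcd (fun j => m a i * m a j) :=
        Finset.dvd_gcd fun j _ => ⟨m i j, by rw [hminor a i a j, hsymm i a]; ring⟩
      rw [Finset.gcd_mul_left, ← hg] at h3
      rw [mul_comm g]
      exact h3.trans (mul_dvd_mul_right (normalize_associated (m a i)).dvd g)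
    have h4 : m a a ∣ Finset.univ.gcd (fun j => g * m a j) := Finset.dvd_gcd fun j _ => h2 j
    rw [Finset.gcd_mul_left, ← hg] at h4
    exact h4.trans (mul_dvd_mul_right (normalize_associated g).dvd g)
  have h5 : g * g ∣ 2 ^ d * m a a := by
    rw [← hidem a a]
    exact Finset.dvd_sum fun k _ => by
      rw [hsymm k a, hw k]
      exact ⟨w k * w k, by ring⟩
  have h6 : IsCoprime (g * g) ((2 : ℤ) ^ d) := by
    have hc : IsCoprime g 2 :=
      ((Int.prime_two.coprime_iff_not_dvd).2 fun h => ha (h.trans ⟨q, hq⟩)).symm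
    exact (hc.mul_left hc).pow_right
  have h7 : g * g = m a a :=
    Int.dvd_antisymm (mul_self_nonneg g) hpos (h6.dvd_of_dvd_mul_left h5) h1
  refine ⟨w, fun i j => ?_⟩
  have h8 := hprod i j
  rw [← h7] at h8
  exact mul_left_cancel₀ (mul_ne_zero hg0 hg0) h8

end Cfsg.Agent.Lib.SixteenNine
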