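import Mathlib

/-!
# Integer forms behind a 2-block with `E₁₆` and inertial index nine

Two scaled projections of rank three and a column of norm sixteen, congruent modulo four and
mutually orthogonal, force all sixteen entries of the column to be signs.
-/

set_option autoImplicit false

namespace Cfsg.Agent.Lib.SixteenNine

open Finset

variable {ι : Type*} [Fintype ι] [DecidableEq ι]

theorem abs_sq_cases {z : ℤ} {n : ℤ} (hn : 0 ≤ n) (h : z ^ 2 ≤ n ^ 2) : -n ≤ z ∧ z ≤ n :=
  abs_le_of_sq_le_sq' h hn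

theorem int_sum_parity {s : Finset ι} (m : ι → ℤ) :
    (2 : ℤ) ∣ ∑ j ∈ s, m j ^ 2 - ∑ j ∈ s, m j := by
  rw [← Finset.sum_sub_distrib]
  refine Finset.dvd_sum fun j _ => ?_
  rw [show m j ^ 2 - m j = (m j - 1) * (m j - 1 + 1) by ring]
  exact even_iff_two_dvd.1 (Int.even_mul_succ_self _)

/-- A diagonal entry on a class of four is at least six. -/
theorem six_le_diag (T : ι → ι → ℤ) (y : ι → ℤ) (hy : ∀ i, y i = 1 ∨ y i = -1)
    (h0 : ∀ i, ∑ j, T i j = 0) (h1 : ∀ i, ∑ j, y j * T i j = 0)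
    (hsq : ∀ i, ∑ j, T i j ^ 2 = 16 * T i i) (hmod : ∀ i j, 4 ∣ T i j + 1 + y i * y j)
    {i : ι} (hcard : (univ.filter fun j => y j = y i).card = 4) : 6 ≤ T i i := by
  have hd := hmod i i
  have hyy : ∀ j, y j * y j = 1 := fun j => by rcases hy j with h | h <;> rw [h] <;> norm_num
  rw [hyy i] at hd
  have hnn : 0 ≤ T i i := by
    have := hsq i
    have h2 : 0 ≤ ∑ j, T i j ^ 2 := Finset.sum_nonneg fun j _ => sq_nonneg _
    omega
  by_contra hlt
  have hii : T i i = 2 := by omega
  set s := univ.filter fun j => y j = y i with hs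
  set d := univ.filter fun j => ¬ y j = y i with hdf
  have split : ∀ f : ι → ℤ, ∑ j, f j = ∑ j ∈ s, f j + ∑ j ∈ d, f j := fun f =>
    (Finset.sum_filter_add_sum_filter_not univ (fun j => y j = y i) f).symm
  have hdsum : ∑ j ∈ d, T i j = 0 := by
    have e1 := h0 i
    have e2 := h1 i
    rw [split] at e1 e2
    rw [Finset.sum_congr rfl (g := fun j => y i * T i j) (s₁ := s)
      (fun j hj => by rw [(Finset.mem_filter.1 hj).2]), ← Finset.mul_sum] at e2
    rw [Finset.sum_congr rfl (g := fun j => -y i * T i j) (s₁ := d) (fun j hj => by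
      have := (Finset.mem_filter.1 hj).2
      rcases hy j with h | h <;> rcases hy i with h' | h' <;> rw [h, h'] <;>
        first | exact absurd (h.trans h'.symm) this | ring), ← Finset.mul_sum] at e2
    rcases hy i with h | h <;> rw [h] at e2 <;> omega
  have hm : ∀ j ∈ d, ∃ m : ℤ, T i j = 4 * m := fun j hj => by
    have := (Finset.mem_filter.1 hj).2
    have hj' := hmod i j
    have : y i * y j = -1 := by
      rcases hy j with h | h <;> rcases hy i with h' | h' <;> rw [h, h'] <;>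
        first | exact absurd (h.trans h'.symm) this | norm_num
    rw [this] at hj'
    exact ⟨T i j / 4, by omega⟩
  choose! m hm using hm
  have hsame : ∀ j ∈ s, ∃ o : ℤ, T i j = 2 * (2 * o + 1) := fun j hj => by
    have hj' := hmod i j
    rw [(Finset.mem_filter.1 hj).2, hyy] at hj'
    exact ⟨T i j / 4, by omega⟩
  choose! o ho using hsame
  have hsum := hsq i
  rw [hii, split] at hsum
  rw [Finset.sum_congr rfl (g := fun j => 4 * (2 * o j + 1) ^ 2) (s₁ := s)
      (fun j hj => by rw [ho j hj]; ring),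
    Finset.sum_congr rfl (g := fun j => 16 * m j ^ 2) (s₁ := d)
      (fun j hj => by rw [hm j hj]; ring), ← Finset.mul_sum, ← Finset.mul_sum] at hsum
  rw [Finset.sum_congr rfl (g := fun j => 4 * m j) (s₁ := d) (fun j hj => hm j hj),
    ← Finset.mul_sum] at hdsum
  have hge : (4 : ℤ) ≤ ∑ j ∈ s, (2 * o j + 1) ^ 2 := by
    have := Finset.card_nsmul_le_sum s (fun j => (2 * o j + 1) ^ 2) 1 fun j _ =>
      Int.add_one_le_iff.2 (lt_of_le_of_ne (sq_nonneg _) (pow_ne_zero 2 (by omega)).symm)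
    rw [hcard] at this
    simpa using this
  have hodd : (8 : ℤ) ∣ ∑ j ∈ s, (2 * o j + 1) ^ 2 - 4 := by
    have h4 : (4 : ℤ) = ∑ _j ∈ s, (1 : ℤ) := by simp [hcard]
    rw [h4, ← Finset.sum_sub_distrib]
    refine Finset.dvd_sum fun j _ => ?_
    rw [show (2 * o j + 1) ^ 2 - 1 = 4 * (o j * (o j + 1)) by ring,
      show (8 : ℤ) = 4 * 2 by norm_num]
    exact mul_dvd_mul_left 4 (even_iff_two_dvd.1 (Int.even_mul_succ_self _))
  have hm0 : (0 : ℤ) ≤ ∑ j ∈ d, m j ^ 2 := Finset.sum_nonneg fun j _ => sq_nonneg _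
  have hpar := int_sum_parity (s := d) m
  omega

/-- No form with the congruences of a class of four. -/
theorem false_of_class (T : ι → ι → ℤ) (y : ι → ℤ) (hy : ∀ i, y i = 1 ∨ y i = -1)
    (h0 : ∀ i, ∑ j, T i j = 0) (h1 : ∀ i, ∑ j, y j * T i j = 0)
    (hsq : ∀ i, ∑ j, T i j ^ 2 = 16 * T i i) (hmod : ∀ i j, 4 ∣ T i j + 1 + y i * y j)
    (htr : ∑ i, T i i = 32)
    (hsize : Fintype.card ι = 12 ∧ (∑ i, y i = 4 ∨ ∑ i, y i = -4) ∨
      Fintype.card ι = 8 ∧ ∑ i, y i = 0) : False := by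
  set P := univ.filter fun i => y i = 1 with hP
  set N := univ.filter fun i => ¬ y i = 1 with hN
  have hNy : ∀ i ∈ N, y i = -1 := fun i hi => (hy i).resolve_left (Finset.mem_filter.1 hi).2
  have hcard : P.card + N.card = Fintype.card ι :=
    Finset.card_filter_add_card_filter_not _
  have hsum : ∑ i, y i = (P.card : ℤ) - N.card := by
    rw [← Finset.sum_filter_add_sum_filter_not univ (fun i => y i = 1) y,
      Finset.sum_congr rfl (g := fun _ => (1 : ℤ)) (s₁ := P) (fun i hi => (Finset.mem_filter.1 hi).2),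
      Finset.sum_congr rfl (g := fun _ => (-1 : ℤ)) (s₁ := N) hNy]
    simp [sub_eq_add_neg]
  have htwo : ∀ i, 2 ≤ T i i := fun i => by
    have hd := hmod i i
    have hyy : y i * y i = 1 := by rcases hy i with h | h <;> rw [h] <;> norm_num
    rw [hyy] at hd
    have := hsq i
    have h2 : 0 ≤ ∑ j, T i j ^ 2 := Finset.sum_nonneg fun j _ => sq_nonneg _
    omega
  have hP6 : P.card = 4 → ∀ i ∈ P, 6 ≤ T i i := fun h i hi =>
    six_le_diag T y hy h0 h1 hsq hmod (by rw [(Finset.mem_filter.1 hi).2]; exact h)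
  have hN6 : N.card = 4 → ∀ i ∈ N, 6 ≤ T i i := fun h i hi =>
    six_le_diag T y hy h0 h1 hsq hmod (by
      rw [hNy i hi]
      refine Eq.trans (congrArg Finset.card (Finset.filter_congr fun j _ => ?_)) h
      rcases hy j with e | e <;> simp [e])
  rw [← Finset.sum_filter_add_sum_filter_not univ (fun i => y i = 1) fun i => T i i] at htr
  have hPl := Finset.card_nsmul_le_sum P (fun i => T i i) 2 fun i _ => htwo i
  have hNl := Finset.card_nsmul_le_sum N (fun i => T i i) 2 fun i _ => htwo i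
  simp only [nsmul_eq_mul] at hPl hNl
  rcases hsize with ⟨hc, hy'⟩ | ⟨hc, hy'⟩
  · rcases hy' with hy' | hy'
    · have h4 : N.card = 4 := by omega
      have := Finset.card_nsmul_le_sum N (fun i => T i i) 6 (hN6 h4)
      simp only [nsmul_eq_mul] at this
      simp only [← hP, ← hN] at htr
      omega
    · have h4 : P.card = 4 := by omega
      have := Finset.card_nsmul_le_sum P (fun i => T i i) 6 (hP6 h4)
      simp only [nsmul_eq_mul] at this
      simp only [← hP, ← hN] at htr
      omega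
  · have h4 : N.card = 4 := by omega
    have h4' : P.card = 4 := by omega
    have := Finset.card_nsmul_le_sum N (fun i => T i i) 6 (hN6 h4)
    have := Finset.card_nsmul_le_sum P (fun i => T i i) 6 (hP6 h4')
    simp only [nsmul_eq_mul] at *
    simp only [← hP, ← hN] at htr
    omega

/-- The hypotheses on one projection and the column. -/
structure IsPart (A : ι → ι → ℤ) (v : ι → ℤ) : Prop where
  symm : ∀ i j, A i j = A j i
  idem : ∀ i j, ∑ k, A i k * A k j = 16 * A i j
  orth : ∀ i, ∑ k, A i k * v k = 0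
  congr : ∀ i j, 4 ∣ A i j + v i * v j
  trace : ∑ i, A i i = 48
  pos : ∀ i, 0 < A i i

variable {A : ι → ι → ℤ} {v : ι → ℤ} {a : ι}

/-- Half of the row of an even member. -/
theorem IsPart.exists_half (h : IsPart A v) (haa : A a a = 4) (hva : v a ^ 2 = 4) :
    ∃ x : ι → ℤ, (∀ j, A a j = 2 * x j) ∧ x a = 2 ∧ ∑ j, x j ^ 2 = 16 ∧ ∑ j, x j * v j = 0 ∧
      (∀ j, 2 ∣ x j + v j) ∧ ∀ i, ∑ k, A i k * x k = 16 * x i := by
  have hva' : v a = 2 ∨ v a = -2 := by
    obtain ⟨h1, h2⟩ := abs_sq_cases (z := v a) (n := 2) (by norm_num) (by rw [hva]; norm_num)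
    rcases (by omega : v a = -2 ∨ v a = -1 ∨ v a = 0 ∨ v a = 1 ∨ v a = 2) with h | h | h | h | h <;>
      rw [h] at hva <;> omega
  refine ⟨fun j => A a j / 2, ?_⟩
  have hx : ∀ j, A a j = 2 * (A a j / 2) ∧ 2 ∣ A a j / 2 + v j := fun j => by
    have := h.congr a j
    rcases hva' with e | e <;> rw [e] at this <;> constructor <;> omega
  refine ⟨fun j => (hx j).1, (show A a a / 2 = 2 by omega), ?_, ?_, fun j => (hx j).2, fun i => ?_⟩ <;>
    dsimp only
  · have e := h.idem a a
    rw [haa, Finset.sum_congr rfl (g := fun k => 4 * (A a k / 2) ^ 2) (fun k _ => by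
      rw [h.symm k a]; nth_rw 1 2 [(hx k).1]; ring), ← Finset.mul_sum] at e
    omega
  · have e := h.orth a
    rw [Finset.sum_congr rfl (g := fun k => 2 * (A a k / 2 * v k)) (fun k _ => by
      nth_rw 1 [(hx k).1]; ring), ← Finset.mul_sum] at e
    omega
  · have e := h.idem i a
    rw [h.symm i a, Finset.sum_congr rfl (g := fun k => 2 * (A i k * (A a k / 2))) (fun k _ => by
      rw [h.symm k a]; nth_rw 1 [(hx k).1]; ring), ← Finset.mul_sum] at e
    have := (hx i).1
    omega

/-- An odd member has sign entry, given the other data. -/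
theorem IsPart.false_of_half (h : IsPart A v) {x : ι → ℤ} (hxA : ∀ i, ∑ k, A i k * x k = 16 * x i)
    (hxx : ∑ j, x j ^ 2 = 16) (hxv : ∑ j, x j * v j = 0)
    (hev : ∀ i, v i ^ 2 ≠ 1 → A i i = x i ^ 2)
    (hx : ∀ i, v i ^ 2 = 1 → x i ^ 2 = 1)
    (hsize : (univ.filter fun i => v i ^ 2 = 1).card = 12 ∧
        (∑ i ∈ univ.filter (fun i => v i ^ 2 = 1), v i * x i = 4 ∨
          ∑ i ∈ univ.filter (fun i => v i ^ 2 = 1), v i * x i = -4) ∨
      (univ.filter fun i => v i ^ 2 = 1).card = 8 ∧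
        ∑ i ∈ univ.filter (fun i => v i ^ 2 = 1), v i * x i = 0) : False := by
  set R : ι → ι → ℤ := fun i j => A i j - x i * x j with hR
  have hR2 : ∀ i, ∑ j, R i j ^ 2 = 16 * R i i := fun i => by
    have e1 := h.idem i i
    have e2 := hxA i
    calc ∑ j, R i j ^ 2
        = ∑ j, A i j * A j i - 2 * x i * ∑ j, A i j * x j + x i ^ 2 * ∑ j, x j ^ 2 := by
          rw [Finset.mul_sum, Finset.mul_sum, ← Finset.sum_sub_distrib, ← Finset.sum_add_distrib]
          exact Finset.sum_congr rfl fun j _ => by rw [h.symm j i]; simp only [hR]; ring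
      _ = 16 * R i i := by rw [e1, e2, hxx]; simp only [hR]; ring
  have hRv : ∀ i, ∑ j, R i j * v j = 0 := fun i => by
    simp only [hR, sub_mul, Finset.sum_sub_distrib, mul_assoc, ← Finset.mul_sum, hxv, h.orth,
      mul_zero, sub_zero]
  have hRx : ∀ i, ∑ j, R i j * x j = 0 := fun i => by
    simp only [hR, sub_mul, Finset.sum_sub_distrib, mul_assoc, ← Finset.mul_sum, hxA, ← sq, hxx]
    ring
  have hRtr : ∑ i, R i i = 32 := by
    simp only [hR, Finset.sum_sub_distrib, h.trace, ← sq, hxx]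
    norm_num
  have hz : ∀ i, v i ^ 2 ≠ 1 → ∀ j, R j i = 0 := fun i hi j => by
    have h0 : R i i = 0 := by simp only [hR]; rw [hev i hi]; ring
    have := hR2 i
    rw [h0, mul_zero] at this
    have := (Finset.sum_eq_zero_iff_of_nonneg fun k _ => sq_nonneg (R i k)).1 this j
      (Finset.mem_univ _)
    have : R i j = 0 := (sq_eq_zero_iff).1 this
    rw [← this]
    simp only [hR]
    rw [h.symm j i, mul_comm (x j)]
  let κ := {i : ι // v i ^ 2 = 1}
  have hsub : ∀ f : ι → ℤ, (∀ i, v i ^ 2 ≠ 1 → f i = 0) → ∑ i : κ, f i = ∑ i, f i := fun f hf => by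
    rw [← Finset.sum_subtype (univ.filter fun i => v i ^ 2 = 1) (fun i => by simp) f]
    exact Finset.sum_subset (Finset.subset_univ _) fun i _ hi => hf i (by simpa using hi)
  have hvv : ∀ i : κ, v i * v i = 1 := fun i => by rw [← sq]; exact i.2
  have hxx' : ∀ i : κ, x i * x i = 1 := fun i => by rw [← sq]; exact hx _ i.2
  have hcardκ : Fintype.card κ = (univ.filter fun i => v i ^ 2 = 1).card :=
    Fintype.card_subtype _
  have hyκ : ∑ i : κ, v i * x i = ∑ i ∈ univ.filter (fun i => v i ^ 2 = 1), v i * x i :=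
    (Finset.sum_subtype _ (fun i => by simp) fun i => v i * x i).symm
  refine false_of_class (ι := κ) (fun i j => v i * v j * R i j) (fun i => v i * x i)
    (fun i => ?_) (fun i => ?_) (fun i => ?_) (fun i => ?_) (fun i j => ?_) ?_ ?_
  · refine (mul_self_eq_one_iff (a := v i * x i)).1 ?_
    linear_combination hvv i * (x (i : ι) * x (i : ι)) + hxx' i
  · show ∑ j : κ, v i * v j * R i j = 0
    rw [hsub (fun j => v i * v j * R i j) (fun j hj => by rw [hz j hj]; ring)]
    rw [Finset.sum_congr rfl (g := fun j => v i * (R i j * v j)) (fun j _ => by ring),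
      ← Finset.mul_sum, hRv, mul_zero]
  · show ∑ j : κ, v j * x j * (v i * v j * R i j) = 0
    rw [Finset.sum_congr rfl (g := fun j : κ => v i * (R i j * x j)) (fun j _ => by
        linear_combination (v (i : ι) * R i j * x j) * hvv j),
      hsub (fun j => v i * (R i j * x j)) (fun j hj => by rw [hz j hj]; ring), ← Finset.mul_sum,
      hRx, mul_zero]
  · show ∑ j : κ, (v i * v j * R i j) ^ 2 = 16 * (v i * v i * R i i)
    rw [Finset.sum_congr rfl (g := fun j : κ => R i j ^ 2) (fun j _ => by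
        linear_combination (R i j ^ 2 * (v (j : ι) * v j)) * hvv i + R i j ^ 2 * hvv j),
      hsub (fun j => R i j ^ 2) (fun j hj => by rw [hz j hj]; ring), hR2, hvv, one_mul]
  · show 4 ∣ v i * v j * R i j + 1 + v i * x i * (v j * x j)
    have e : v i * v j * R i j + 1 + v i * x i * (v j * x j) =
        v i * v j * (A i j + v i * v j) := by
      simp only [hR]
      linear_combination -(hvv i) - (v (i : ι) * v i) * hvv j
    rw [e]
    exact dvd_mul_of_dvd_right (h.congr i j) _
  · show ∑ i : κ, v i * v i * R i i = 32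
    simp only [hvv, one_mul]
    rw [hsub (fun i => R i i) (fun i hi => hz i hi i), hRtr]
  · rw [hcardκ, hyκ]
    exact hsize

/-- The frame. -/
theorem card_eq_sixteen {B : ι → ι → ℤ} (hA : IsPart A v) (hB : IsPart B v)
    (hAB : ∀ i, ∑ k, A i k * B i k = 0) (hvv : ∑ i, v i ^ 2 = 16) (hv0 : ∀ i, v i ≠ 0)
    (hlt : ∀ i, A i i + B i i + v i ^ 2 < 16) (hk : 9 ≤ Fintype.card ι) :
    Fintype.card ι = 16 := by
  have hval : ∀ i, v i ^ 2 = 1 ∨ (v i ^ 2 = 4 ∧ A i i = 4 ∧ B i i = 4) ∨ 9 ≤ v i ^ 2 := by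
    intro i
    have h1 := hA.congr i i
    have h2 := hB.congr i i
    have h3 := hlt i
    have h4 := hA.pos i
    have h5 := hB.pos i
    rw [← sq] at h1 h2
    rcases (by have := hv0 i; omega :
      v i = 1 ∨ v i = -1 ∨ v i = 2 ∨ v i = -2 ∨ 3 ≤ v i ∨ v i ≤ -3) with h | h | h | h | h | h
    · exact Or.inl (by rw [h]; norm_num)
    · exact Or.inl (by rw [h]; norm_num)
    · rw [h] at h1 h2 h3; exact Or.inr (Or.inl ⟨by rw [h]; norm_num, by omega, by omega⟩)
    · rw [h] at h1 h2 h3; exact Or.inr (Or.inl ⟨by rw [h]; norm_num, by omega, by omega⟩)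
    · exact Or.inr (Or.inr (by nlinarith))
    · exact Or.inr (Or.inr (by nlinarith))
  set O := univ.filter fun i => v i ^ 2 = 1 with hO
  set E := univ.filter fun i => ¬ v i ^ 2 = 1 with hE
  have hcard : O.card + E.card = Fintype.card ι := Finset.card_filter_add_card_filter_not _
  have hsplit : ∀ f : ι → ℤ, ∑ i, f i = ∑ i ∈ O, f i + ∑ i ∈ E, f i := fun f =>
    (Finset.sum_filter_add_sum_filter_not univ (fun i => v i ^ 2 = 1) f).symm
  have hsumO : ∑ i ∈ O, v i ^ 2 = (O.card : ℤ) := by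
    rw [Finset.sum_congr rfl (g := fun _ => (1 : ℤ)) fun i hi => (Finset.mem_filter.1 hi).2,
      Finset.sum_const, nsmul_eq_mul, mul_one]
  rw [hsplit, hsumO] at hvv
  have hE4 : ∀ i ∈ E, v i ^ 2 = 4 ∧ A i i = 4 ∧ B i i = 4 := by
    intro i hi
    rcases hval i with h | h | h
    · exact absurd h (Finset.mem_filter.1 hi).2
    · exact h
    · exfalso
      have h1 := Finset.card_nsmul_le_sum (E.erase i) (fun j => v j ^ 2) 1 fun j _ =>
        Int.add_one_le_iff.2 (lt_of_le_of_ne (sq_nonneg _) (pow_ne_zero 2 (hv0 j)).symm)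
      rw [nsmul_eq_mul, mul_one, Finset.card_erase_of_mem hi] at h1
      rw [← Finset.add_sum_erase E _ hi] at hvv
      have := Finset.card_pos.2 ⟨i, hi⟩
      omega
  have hsumE : ∑ i ∈ E, v i ^ 2 = 4 * (E.card : ℤ) := by
    rw [Finset.sum_congr rfl (g := fun _ => (4 : ℤ)) fun i hi => (hE4 i hi).1]
    simp [mul_comm]
  rw [hsumE] at hvv
  by_contra hne
  obtain ⟨a, ha⟩ : E.Nonempty := Finset.card_pos.1 (by omega)
  obtain ⟨hva, hAa, hBa⟩ := hE4 a ha
  obtain ⟨x, hxA', hxa, hxx, hxv, hxp, hxe⟩ := hA.exists_half hAa hva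
  obtain ⟨z, hzB', hza, hzz, hzv, hzp, hze⟩ := hB.exists_half hBa hva
  have hodd : ∀ w : ι → ℤ, (∀ j, 2 ∣ w j + v j) → ∀ i ∈ O, ¬ 2 ∣ w i := fun w hw i hi h2 => by
    have h1 := (Finset.mem_filter.1 hi).2
    have h3 : 2 ∣ v i := by have := hw i; omega
    have h4 : (2 : ℤ) ∣ v i ^ 2 := dvd_pow h3 two_ne_zero
    omega
  have heven : ∀ w : ι → ℤ, (∀ j, 2 ∣ w j + v j) → ∀ i ∈ E, 2 ∣ w i := fun w hw i hi => by
    obtain ⟨h1, -, -⟩ := hE4 i hi
    have h2 : 2 ∣ v i := Int.prime_two.dvd_of_dvd_pow (n := 2) (by rw [h1]; norm_num)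
    have := hw i
    omega
  rcases (by omega : E.card = 1 ∨ E.card = 2) with hc | hc
  · -- one even member
    have hEa : E = {a} := by
      obtain ⟨b, hb⟩ := Finset.card_eq_one.1 hc
      rw [hb] at ha ⊢
      rw [Finset.mem_singleton.1 ha]
    rw [hsplit, hEa, Finset.sum_singleton] at hxx hxv
    rw [hxa] at hxx hxv
    have hunit : ∀ i ∈ O, x i ^ 2 = 1 := by
      intro i hi
      have h1 : ∀ j ∈ O, (1 : ℤ) ≤ x j ^ 2 := fun j hj =>
        Int.add_one_le_iff.2 (lt_of_le_of_ne (sq_nonneg _)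
          (pow_ne_zero 2 fun h => hodd x hxp j hj (by rw [h]; exact dvd_zero 2)).symm)
      have h2 := (Finset.sum_eq_sum_iff_of_le h1).1 (by
        simp only [Finset.sum_const, nsmul_eq_mul, mul_one]
        omega) i hi
      exact h2.symm
    refine hA.false_of_half hxe (by rw [hsplit, hEa, Finset.sum_singleton, hxa]; omega)
      (by rw [hsplit, hEa, Finset.sum_singleton, hxa]; omega) (fun i hi => ?_)
      (fun i hi => hunit i (Finset.mem_filter.2 ⟨Finset.mem_univ _, hi⟩)) (Or.inl ⟨by rw [← hO]; omega, ?_⟩)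
    · have : i ∈ E := Finset.mem_filter.2 ⟨Finset.mem_univ _, hi⟩
      rw [hEa, Finset.mem_singleton] at this
      subst this
      rw [hAa, hxa]; norm_num
    · rw [← hO, Finset.sum_congr rfl (g := fun i => x i * v i) fun i _ => mul_comm _ _]
      rcases (by have := abs_sq_cases (z := v a) (n := 2) (by norm_num) (by rw [hva]; norm_num);
                 omega : v a = -2 ∨ v a = -1 ∨ v a = 0 ∨ v a = 1 ∨ v a = 2) with h | h | h | h | h <;>
        rw [h] at hva hxv <;> omega
  · -- two even members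
    obtain ⟨b, hab, hEab⟩ : ∃ b, a ≠ b ∧ E = {a, b} := by
      obtain ⟨c, d, hcd, hEcd⟩ := Finset.card_eq_two.1 hc
      rw [hEcd] at ha
      rcases Finset.mem_insert.1 ha with h | h
      · exact ⟨d, h ▸ hcd, by rw [hEcd, h]⟩
      · rw [Finset.mem_singleton] at h
        exact ⟨c, h ▸ hcd.symm, by rw [hEcd, h, Finset.pair_comm]⟩
    have hbE : b ∈ E := by simp [hEab]
    obtain ⟨hvb, hAb, hBb⟩ := hE4 b hbE
    have hsum2 : ∀ f : ι → ℤ, ∑ i, f i = ∑ i ∈ O, f i + (f a + f b) := fun f => by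
      rw [hsplit, hEab, Finset.sum_pair hab]
    have hkey : ∀ (C : ι → ι → ℤ) (w : ι → ℤ), IsPart C v → C b b = 4 → (∀ j, 2 ∣ w j + v j) →
        w a = 2 → ∑ j, w j ^ 2 = 16 →
        (∀ i ∈ O, w i ^ 2 = 1) ∧ (w b = 2 ∨ w b = -2) := by
      intro C w hC hCb hw hwa hww
      rw [hsum2, hwa] at hww
      have h8 : (8 : ℤ) ∣ ∑ i ∈ O, w i ^ 2 - 8 := by
        have h8' : (8 : ℤ) = ∑ _i ∈ O, (1 : ℤ) := by simp; omega
        nth_rw 2 [h8']
        rw [← Finset.sum_sub_distrib]
        refine Finset.dvd_sum fun i hi => ?_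
        obtain ⟨q, hq⟩ : ∃ q, w i = 2 * q + 1 :=
          ⟨(w i - 1) / 2, by have := hodd w hw i hi; omega⟩
        rw [hq, show (2 * q + 1) ^ 2 - 1 = 4 * (q * (q + 1)) by ring,
          show (8 : ℤ) = 4 * 2 by norm_num]
        exact mul_dvd_mul_left 4 (even_iff_two_dvd.1 (Int.even_mul_succ_self _))
      have h1 : ∀ j ∈ O, (1 : ℤ) ≤ w j ^ 2 := fun j hj =>
        Int.add_one_le_iff.2 (lt_of_le_of_ne (sq_nonneg _)
          (pow_ne_zero 2 fun h => hodd w hw j hj (by rw [h]; exact dvd_zero 2)).symm)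
      have h1' := Finset.card_nsmul_le_sum O (fun j => w j ^ 2) 1 h1
      rw [nsmul_eq_mul, mul_one] at h1'
      obtain ⟨q, hq⟩ := heven w hw b hbE
      rw [hq, mul_pow] at hww
      have hq1 : q ^ 2 = 1 := by
        have := sq_nonneg q
        omega
      refine ⟨fun i hi => ?_, ?_⟩
      · refine ((Finset.sum_eq_sum_iff_of_le h1).1 ?_ i hi).symm
        simp only [Finset.sum_const, nsmul_eq_mul, mul_one]
        omega
      · rcases sq_eq_one_iff.1 hq1 with h | h <;> rw [hq, h] <;> simp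
    obtain ⟨hxu, hxb⟩ := hkey A x hA hAb hxp hxa hxx
    obtain ⟨hzu, hzb⟩ := hkey B z hB hBb hzp hza hzz
    have hxy : ∑ j, x j * z j = 0 := by
      have e := hAB a
      rw [Finset.sum_congr rfl (g := fun k => 4 * (x k * z k)) (fun k _ => by
        rw [hxA', hzB']; ring), ← Finset.mul_sum] at e
      omega
    have hO8 : O.card = 8 := by omega
    -- one of the two is balanced
    have hfinish : ∀ (C : ι → ι → ℤ) (w : ι → ℤ), IsPart C v → C a a = 4 → C b b = 4 →
        (∀ i, ∑ k, C i k * w k = 16 * w i) → ∑ j, w j ^ 2 = 16 → ∑ j, w j * v j = 0 →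
        w a = 2 → (w b = 2 ∨ w b = -2) → (∀ i ∈ O, w i ^ 2 = 1) →
        ∑ i ∈ O, v i * w i = 0 → False := by
      intro C w hC hCa hCb hwe hww hwv hwa hwb hwu h0
      refine hC.false_of_half hwe hww hwv (fun i hi => ?_) (fun i hi => hwu i (Finset.mem_filter.2 ⟨Finset.mem_univ _, hi⟩))
        (Or.inr ⟨hO8, h0⟩)
      have : i ∈ E := Finset.mem_filter.2 ⟨Finset.mem_univ _, hi⟩
      rw [hEab] at this
      rcases Finset.mem_insert.1 this with h | h
      · subst h; rw [hCa, hwa]; norm_num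
      · rw [Finset.mem_singleton] at h
        subst h; rw [hCb]; rcases hwb with h | h <;> rw [h] <;> norm_num
    by_cases hxbal : ∑ i ∈ O, v i * x i = 0
    · exact hfinish A x hA hAa hAb hxe hxx hxv hxa hxb hxu hxbal
    by_cases hzbal : ∑ i ∈ O, v i * z i = 0
    · exact hfinish B z hB hBa hBb hze hzz hzv hza hzb hzu hzbal
    -- both unbalanced: the rows coincide
    have hvpm : ∀ c : ι, v c ^ 2 = 4 → v c = 2 ∨ v c = -2 := fun c hc => by
      rcases sq_eq_sq_iff_eq_or_eq_neg.1 (show v c ^ 2 = (2 : ℤ) ^ 2 by rw [hc]; norm_num) with h | h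
      · exact Or.inl h
      · exact Or.inr h
    have hall : ∀ w : ι → ℤ, w a = 2 → (w b = 2 ∨ w b = -2) → (∀ i ∈ O, w i ^ 2 = 1) →
        ∑ j, w j * v j = 0 → ∑ i ∈ O, v i * w i ≠ 0 →
        w b * v b = 2 * v a ∧ ∀ i ∈ O, 4 * (v i * w i) = -2 * v a := by
      intro w hwa hwb hwu hwv hne0
      rw [hsum2, hwa, Finset.sum_congr rfl (g := fun i => v i * w i) (s₁ := O)
        (fun i _ => mul_comm _ _)] at hwv
      have hb' : w b * v b = 2 * v a := by
        rcases hwb with h | h <;> rcases hvpm a hva with h' | h' <;> rcases hvpm b hvb with h'' | h'' <;>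
          rw [h, h', h''] at hwv ⊢ <;> omega
      refine ⟨hb', fun i hi => ?_⟩
      have hu : ∀ j ∈ O, v j * w j = 1 ∨ v j * w j = -1 := fun j hj =>
        sq_eq_one_iff.1 (by rw [mul_pow, hwu j hj, (Finset.mem_filter.1 hj).2, one_mul])
      rcases hvpm a hva with h' | h'
      · rw [h'] at hwv hb' ⊢
        have h2 := (Finset.sum_eq_sum_iff_of_le (f := fun _ => (-1 : ℤ))
          (g := fun j => v j * w j) (fun j hj => by rcases hu j hj with e | e <;> omega)).1 (by
            simp only [Finset.sum_const, nsmul_eq_mul, hO8]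
            omega) i hi
        omega
      · rw [h'] at hwv hb' ⊢
        have h2 := (Finset.sum_eq_sum_iff_of_le (g := fun _ => (1 : ℤ))
          (f := fun j => v j * w j) (fun j hj => by rcases hu j hj with e | e <;> omega)).1 (by
            simp only [Finset.sum_const, nsmul_eq_mul, hO8]
            omega) i hi
        omega
    obtain ⟨hxb', hxO⟩ := hall x hxa hxb hxu hxv hxbal
    obtain ⟨hzb', hzO⟩ := hall z hza hzb hzu hzv hzbal
    have heq : ∀ i ∈ O, x i * z i = 1 := fun i hi => by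
      have e1 := hxO i hi
      have e2 := hzO i hi
      have : v i * x i = v i * z i := by omega
      have hvi : v i ≠ 0 := hv0 i
      rw [← mul_left_cancel₀ hvi this, ← sq]
      exact hxu i hi
    have hxzb : x b * z b = 4 := by
      have : x b * v b = z b * v b := by omega
      rw [← mul_right_cancel₀ (hv0 b) this]
      rcases hxb with h | h <;> rw [h] <;> norm_num
    rw [hsum2, Finset.sum_congr rfl heq, hxa, hza, hxzb, Finset.sum_const, hO8] at hxy
    norm_num at hxy

end Cfsg.Agent.Lib.SixteenNine
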