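import Mathlib

/-!
# A group of order nine acting faithfully on an elementary abelian group of order sixteen
-/

set_option autoImplicit false

namespace Cfsg.Agent.Lib.SixteenNine

variable {V : Type*} [Group V] [Finite V] (E : Subgroup (MulAut V))

/-- The fixed subgroup of an automorphism. -/
def fixSub (e : MulAut V) : Subgroup V := MonoidHom.eqLocus (e : V →* V) (MonoidHom.id V)

theorem mem_fixSub {e : MulAut V} {x : V} : x ∈ fixSub e ↔ e x = x := Iff.rfl

variable (hV : Nat.card V = 16) (hsq : ∀ x : V, x * x = 1) (hE : Nat.card E = 9)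

include hE in
theorem comm_of_card_nine {d e : MulAut V} (hd : d ∈ E) (he : e ∈ E) : d * e = e * d := by
  haveI : Fact (Nat.Prime 3) := ⟨Nat.prime_three⟩
  haveI := IsPGroup.isMulCommutative_of_card_eq_prime_sq (p := 3) (G := E) (by rw [hE]; norm_num)
  exact congrArg Subtype.val (IsMulCommutative.is_comm.comm (⟨d, hd⟩ : E) ⟨e, he⟩)

include hE in
theorem fixSub_invariant {d e : MulAut V} (hd : d ∈ E) (he : e ∈ E) {x : V} (hx : x ∈ fixSub d) :
    e x ∈ fixSub d := by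
  rw [mem_fixSub] at hx ⊢
  calc d (e x) = (d * e) x := rfl
    _ = (e * d) x := by rw [comm_of_card_nine E hE hd he]
    _ = e x := congrArg e hx

include hV hE in
theorem card_fixSub {e : MulAut V} (he : e ∈ E) (hne : e ≠ 1) :
    Nat.card (fixSub e) = 1 ∨ Nat.card (fixSub e) = 4 := by
  haveI : Fact (Nat.Prime 3) := ⟨Nat.prime_three⟩
  have hp : IsPGroup 3 (Subgroup.zpowers e) :=
    (IsPGroup.of_card (n := 2) (by rw [hE]; norm_num : Nat.card E = 3 ^ 2)).to_le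
      (Subgroup.zpowers_le.2 he)
  have hfix : MulAction.fixedPoints (Subgroup.zpowers e) V = (fixSub e : Set V) := by
    ext x
    refine ⟨fun h => h ⟨e, Subgroup.mem_zpowers e⟩, fun h d => ?_⟩
    obtain ⟨d, hd⟩ := d
    have hle : Subgroup.zpowers e ≤ MulAction.stabilizer (MulAut V) x :=
      Subgroup.zpowers_le.2 (MulAction.mem_stabilizer_iff.2 h)
    exact MulAction.mem_stabilizer_iff.1 (hle hd)
  have hmod := hp.card_modEq_card_fixedPoints V
  rw [hfix, hV] at hmod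
  have hdvd := (fixSub e).card_subgroup_dvd_card
  rw [hV] at hdvd
  have h16 : Nat.card (fixSub e) ≠ 16 := fun h => hne (MulEquiv.ext fun x => by
    have : fixSub e = ⊤ := Subgroup.eq_top_of_card_eq _ (by rw [h, hV])
    exact mem_fixSub.1 (this ▸ Subgroup.mem_top x))
  have hmod' : 16 % 3 = Nat.card (fixSub e) % 3 := hmod
  obtain ⟨i, hi, hc⟩ := (Nat.dvd_prime_pow Nat.prime_two (m := 4)).1 (by simpa using hdvd)
  interval_cases i <;> rw [hc] at h16 hmod' ⊢ <;> simp_all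

include hE in
/-- An invariant set without fixed points of non-trivial elements has size divisible by nine. -/
theorem nine_dvd_of_free (S : Set V) (hS : ∀ e ∈ E, ∀ x ∈ S, e x ∈ S)
    (hfree : ∀ e ∈ E, ∀ x ∈ S, e x = x → e = 1) : 9 ∣ Nat.card S := by
  classical
  letI : MulAction E S :=
    { smul := fun e x => ⟨(e : MulAut V) x, hS e e.2 x x.2⟩
      one_smul := fun x => Subtype.ext rfl
      mul_smul := fun _ _ x => Subtype.ext rfl }
  have hst : ∀ x : S, MulAction.stabilizer E x = ⊥ := fun x => (Subgroup.eq_bot_iff_forall _).2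
    fun e he => Subtype.ext (hfree e e.2 x x.2 (congrArg Subtype.val (MulAction.mem_stabilizer_iff.1 he)))
  rw [Nat.card_congr (MulAction.selfEquivOrbitsQuotientProd hst), Nat.card_prod, hE]
  exact dvd_mul_left 9 _

include hV hE in
theorem exists_fix_outside (X : Subgroup V) (hX : ∀ e ∈ E, ∀ x ∈ X, e x ∈ X)
    (hcard : Nat.card X = 1 ∨ Nat.card X = 4) :
    ∃ d ∈ E, d ≠ 1 ∧ ∃ u ∉ X, d u = u := by
  by_contra h
  push Not at h
  have hS : ∀ e ∈ E, ∀ x ∈ (X : Set V)ᶜ, e x ∈ (X : Set V)ᶜ := fun e he x hx h' =>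
    hx (show x ∈ X from by simpa using hX e⁻¹ (inv_mem he) _ h')
  have h9 := nine_dvd_of_free E hE _ hS fun e he x hx hfix => by
    by_contra hne
    exact h e he hne x hx hfix
  have hc : Nat.card ((X : Set V)ᶜ : Set V) + Nat.card X = 16 := by
    rw [← hV, Nat.card_coe_set_eq, ← Set.ncard_compl_add_ncard (X : Set V), ← Nat.card_coe_set_eq (X : Set V)]
    rfl
  rcases hcard with h' | h' <;> omega

include hV hE in
/-- An element with four fixed points: the stabiliser of a fixed involution and transitivity. -/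
theorem fix_four {d : MulAut V} (hd : d ∈ E) (hne : d ≠ 1) (h4 : Nat.card (fixSub d) = 4) :
    (∀ a ∈ fixSub d, a ≠ 1 → ∀ e ∈ E, e a = a → e ∈ Subgroup.zpowers d) ∧
      ∀ a ∈ fixSub d, a ≠ 1 → ∀ a' ∈ fixSub d, a' ≠ 1 → ∃ e ∈ E, e a = a' := by
  classical
  cases nonempty_fintype V
  set X := fixSub d with hX
  haveI : Finite E := Nat.finite_of_card_ne_zero (by omega)
  haveI := Fintype.ofFinite E
  letI : MulAction E V := MulAction.compHom V E.subtype
  have hsm : ∀ (e : E) (x : V), e • x = (e : MulAut V) x := fun _ _ => rfl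
  -- some involution of `X` is moved
  obtain ⟨a₀, ha₀, ha₀1, e₀, he₀, he₀a⟩ : ∃ a ∈ X, a ≠ 1 ∧ ∃ e ∈ E, e a ≠ a := by
    by_contra h
    push Not at h
    obtain ⟨c, hc, hc1, u, hu, hcu⟩ := exists_fix_outside E hV hE X
      (fun e he x hx => fixSub_invariant E hE hd he hx) (Or.inr h4)
    have hle : X ≤ fixSub c := fun x hx => by
      by_cases hx1 : x = 1
      · rw [hx1]; exact one_mem _
      · exact h x hx hx1 c hc
    rcases card_fixSub E hV hE hc hc1 with h' | h'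
    · have := Subgroup.card_le_of_le hle
      omega
    · exact hu ((Subgroup.eq_of_le_of_card_ge hle (by omega)).symm ▸ hcu)
  have horb : ∀ a ∈ X, a ≠ 1 →
      MulAction.orbit E a ⊆ (X : Set V) \ {1} := by
    rintro a ha ha1 _ ⟨e, rfl⟩
    refine ⟨fixSub_invariant E hE hd e.2 ha, fun h => ha1 ?_⟩
    exact (e : MulAut V).injective (by rw [map_one]; exact h)
  have hX3 : ((X : Set V) \ {1}).ncard = 3 := by
    rw [Set.ncard_diff_singleton_of_mem X.one_mem, ← Nat.card_coe_set_eq,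
      show Nat.card (X : Set V) = Nat.card X from rfl, h4]
  -- the orbit of the moved one
  have hsize : ∀ a : V, (MulAction.orbit E a).ncard * Nat.card (MulAction.stabilizer E a) = 9 :=
    fun a => by
      haveI := Fintype.ofFinite (MulAction.orbit E a)
      have := MulAction.card_orbit_mul_card_stabilizer_eq_card_group E a
      rw [← Nat.card_eq_fintype_card, ← Nat.card_eq_fintype_card, ← Nat.card_eq_fintype_card, hE] at this
      rwa [← Nat.card_coe_set_eq]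
  have horb0 : MulAction.orbit E a₀ = (X : Set V) \ {1} := by
    refine Set.eq_of_subset_of_ncard_le (horb a₀ ha₀ ha₀1) ?_ (Set.toFinite _)
    rw [hX3]
    have h1 : (MulAction.orbit E a₀).ncard ∣ 9 := Dvd.intro _ (hsize a₀)
    obtain ⟨i, hi, hc⟩ := (Nat.dvd_prime_pow Nat.prime_three (m := 2)).1 (by simpa using h1)
    have h2 : 1 < (MulAction.orbit E a₀).ncard :=
      (Set.one_lt_ncard (Set.toFinite _)).2 ⟨a₀, MulAction.mem_orbit_self a₀, (e₀ : MulAut V) a₀,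
        ⟨⟨e₀, he₀⟩, rfl⟩, fun h => he₀a h.symm⟩
    interval_cases i <;> omega
  have horbX : ∀ a ∈ X, a ≠ 1 → MulAction.orbit E a = (X : Set V) \ {1} := fun a ha ha1 => by
    rw [← horb0]
    exact MulAction.orbit_eq_iff.2 (horb0 ▸ ⟨ha, ha1⟩)
  refine ⟨fun a ha ha1 e he hea => ?_, fun a ha ha1 a' ha' ha1' => ?_⟩
  · have h1 := hsize a
    rw [horbX a ha ha1, hX3] at h1
    set S := MulAction.stabilizer E a with hSdef
    have hdS : Subgroup.zpowers (⟨d, hd⟩ : E) ≤ S :=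
      Subgroup.zpowers_le.2 (MulAction.mem_stabilizer_iff.2 (mem_fixSub.1 ha))
    have h3 : Nat.card (Subgroup.zpowers (⟨d, hd⟩ : E)) = 3 := by
      have h4' := Subgroup.card_dvd_of_le hdS
      rw [show Nat.card S = 3 by omega] at h4'
      rcases (Nat.dvd_prime Nat.prime_three).1 h4' with h' | h'
      · rw [Subgroup.card_eq_one, Subgroup.zpowers_eq_bot] at h'
        exact absurd (congrArg Subtype.val h') hne
      · exact h'
    have heS : (⟨e, he⟩ : E) ∈ S := MulAction.mem_stabilizer_iff.2 hea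
    rw [← Subgroup.eq_of_le_of_card_ge hdS (by omega)] at heS
    obtain ⟨k, hk⟩ := heS
    exact ⟨k, congrArg Subtype.val hk⟩
  · obtain ⟨e, he⟩ : a' ∈ MulAction.orbit E a := by rw [horbX a ha ha1]; exact ⟨ha', ha1'⟩
    exact ⟨e, e.2, he⟩

theorem zpowers_fix {d e : MulAut V} (he : e ∈ Subgroup.zpowers d) {x : V} (hx : x ∈ fixSub d) :
    e x = x :=
  MulAction.mem_stabilizer_iff.1 ((Subgroup.zpowers_le.2
    (MulAction.mem_stabilizer_iff.2 (mem_fixSub.1 hx)) :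
      Subgroup.zpowers d ≤ MulAction.stabilizer (MulAut V) x) he)

include hV hE in
theorem fix_eq_of_le {e : MulAut V} (he : e ∈ E) (hne : e ≠ 1) (X : Subgroup V)
    (h4 : Nat.card X = 4) (hle : X ≤ fixSub e) : fixSub e = X := by
  rcases card_fixSub E hV hE he hne with h | h
  · have := Subgroup.card_le_of_le hle
    omega
  · exact (Subgroup.eq_of_le_of_card_ge hle (by omega)).symm

/-- The decomposition of the action. -/
structure Split (X Y : Subgroup V) : Prop where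
  cardX : Nat.card X = 4
  cardY : Nat.card Y = 4
  inf_eq : X ⊓ Y = ⊥
  gen : ∀ w, ∃ a ∈ X, ∃ b ∈ Y, a * b = w
  invX : ∀ e ∈ E, ∀ x ∈ X, e x ∈ X
  invY : ∀ e ∈ E, ∀ x ∈ Y, e x ∈ Y
  transX : ∀ a ∈ X, a ≠ 1 → ∀ a' ∈ X, a' ≠ 1 → ∃ e ∈ E, e a = a'
  transY : ∀ a ∈ Y, a ≠ 1 → ∀ a' ∈ Y, a' ≠ 1 → ∃ e ∈ E, e a = a'
  free : ∀ w, w ∉ X → w ∉ Y → ∀ e ∈ E, e w = w → e = 1
  moveY : ∀ b ∈ Y, b ≠ 1 → ∃ e ∈ E, (∀ x ∈ X, e x = x) ∧ e b ≠ b
  moveX : ∀ a ∈ X, a ≠ 1 → ∃ e ∈ E, (∀ x ∈ Y, e x = x) ∧ e a ≠ a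
  fixX : ∀ a ∈ X, a ≠ 1 → ∀ e ∈ E, e a = a → ∀ x ∈ X, e x = x
  fixY : ∀ a ∈ Y, a ≠ 1 → ∀ e ∈ E, e a = a → ∀ x ∈ Y, e x = x

include hV hsq hE in
theorem exists_split : ∃ X Y : Subgroup V, Split E X Y := by
  classical
  obtain ⟨d₁, hd₁, hd₁1, u₁, hu₁, hdu₁⟩ := exists_fix_outside E hV hE ⊥
    (fun e _ x hx => by rw [Subgroup.mem_bot] at hx ⊢; rw [hx, map_one]) (Or.inl (by simp))
  set X := fixSub d₁ with hX
  have hX4 : Nat.card X = 4 := by
    rcases card_fixSub E hV hE hd₁ hd₁1 with h | h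
    · exact absurd ((Subgroup.card_eq_one.1 h) ▸ (hdu₁ : u₁ ∈ X)) hu₁
    · exact h
  have hXi : ∀ e ∈ E, ∀ x ∈ X, e x ∈ X := fun e he x hx => fixSub_invariant E hE hd₁ he hx
  obtain ⟨d₂, hd₂, hd₂1, u₂, hu₂, hdu₂⟩ := exists_fix_outside E hV hE X hXi (Or.inr hX4)
  set Y := fixSub d₂ with hY
  have hY4 : Nat.card Y = 4 := by
    rcases card_fixSub E hV hE hd₂ hd₂1 with h | h
    · refine absurd ?_ hu₂
      rw [show u₂ = 1 from Subgroup.mem_bot.1 ((Subgroup.card_eq_one.1 h) ▸ (hdu₂ : u₂ ∈ Y))]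
      exact one_mem _
    · exact h
  obtain ⟨hXs, hXt⟩ := fix_four E hV hE hd₁ hd₁1 hX4
  obtain ⟨hYs, hYt⟩ := fix_four E hV hE hd₂ hd₂1 hY4
  have hinf : X ⊓ Y = ⊥ := by
    refine (Subgroup.eq_bot_iff_forall _).2 fun a ha => ?_
    by_contra ha1
    have h := hXs a ha.1 ha1 d₂ hd₂ (mem_fixSub.1 ha.2)
    have hXY : fixSub d₂ = X :=
      fix_eq_of_le E hV hE hd₂ hd₂1 X hX4 fun x hx => zpowers_fix h hx
    exact hu₂ (hXY ▸ (hdu₂ : u₂ ∈ fixSub d₂))
  have hcomm : ∀ x y : V, x * y = y * x := fun x y => by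
    have h := hsq (x * y)
    have h' : ∀ z : V, z⁻¹ = z := fun z => inv_eq_of_mul_eq_one_right (hsq z)
    rw [← h' (x * y), mul_inv_rev, h', h']
  have hdisj : ∀ {a a' b b' : V}, a ∈ X → a' ∈ X → b ∈ Y → b' ∈ Y → a * b = a' * b' →
      a = a' ∧ b = b' := by
    intro a a' b b' ha ha' hb hb' h
    have h1 : a'⁻¹ * a = b' * b⁻¹ := by
      rw [eq_mul_inv_iff_mul_eq, mul_assoc, h, inv_mul_cancel_left]
    have h2 : a'⁻¹ * a ∈ X ⊓ Y :=
      Subgroup.mem_inf.2 ⟨X.mul_mem (X.inv_mem ha') ha, h1.symm ▸ Y.mul_mem hb' (Y.inv_mem hb)⟩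
    rw [hinf, Subgroup.mem_bot, inv_mul_eq_one] at h2
    subst h2
    exact ⟨rfl, mul_left_cancel h⟩
  have hbij : Function.Bijective fun z : X × Y => (z.1 : V) * z.2 := by
    rw [Nat.bijective_iff_injective_and_card, Nat.card_prod, hX4, hY4, hV]
    refine ⟨fun z z' h => ?_, rfl⟩
    obtain ⟨h1, h2⟩ := hdisj z.1.2 z'.1.2 z.2.2 z'.2.2 h
    exact Prod.ext (Subtype.ext h1) (Subtype.ext h2)
  have hmove : ∀ (d : MulAut V), d ∈ E → d ≠ 1 → ∀ (Z W : Subgroup V), fixSub d = Z →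
      Z ⊓ W = ⊥ → ∀ b ∈ W, b ≠ 1 → d b ≠ b := by
    intro d _ _ Z W hdZ hZW b hb hb1 h
    have : b ∈ Z ⊓ W := ⟨hdZ ▸ h, hb⟩
    rw [hZW, Subgroup.mem_bot] at this
    exact hb1 this
  refine ⟨X, Y, hX4, hY4, hinf, fun w => ⟨_, (hbij.2 w).choose.1.2, _, (hbij.2 w).choose.2.2,
    (hbij.2 w).choose_spec⟩, hXi, fun e he x hx => fixSub_invariant E hE hd₂ he hx, hXt, hYt,
    fun w hwX hwY e he hew => ?_, fun b hb hb1 => ⟨d₁, hd₁, fun x hx => hx,
      hmove d₁ hd₁ hd₁1 X Y rfl hinf b hb hb1⟩,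
    fun a ha ha1 => ⟨d₂, hd₂, fun x hx => hx,
      hmove d₂ hd₂ hd₂1 Y X rfl (by rw [inf_comm]; exact hinf) a ha ha1⟩,
    fun a ha ha1 e he hea x hx => zpowers_fix (hXs a ha ha1 e he hea) hx,
    fun a ha ha1 e he hea x hx => zpowers_fix (hYs a ha ha1 e he hea) hx⟩
  obtain ⟨⟨a, b⟩, hab⟩ := hbij.2 w
  dsimp only at hab
  have ha1 : (a : V) ≠ 1 := fun h => hwY (by rw [← hab, h, one_mul]; exact b.2)
  have hb1 : (b : V) ≠ 1 := fun h => hwX (by rw [← hab, h, mul_one]; exact a.2)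
  obtain ⟨hea, heb⟩ := hdisj (hXi e he a a.2) a.2 (fixSub_invariant E hE hd₂ he b.2) b.2
    (by rw [← map_mul, hab, hew])
  by_contra hne
  have hfe := fix_eq_of_le E hV hE he hne X hX4 fun x hx =>
    mem_fixSub.2 (zpowers_fix (hXs a a.2 ha1 e he hea) hx)
  have : (b : V) ∈ X ⊓ Y := ⟨hfe ▸ (heb : (b : V) ∈ fixSub e), b.2⟩
  rw [hinf, Subgroup.mem_bot] at this
  exact hb1 this

end Cfsg.Agent.Lib.SixteenNine

namespace Cfsg.Agent.Lib.SixteenNine

variable {V : Type*} [Group V] [Finite V] {E : Subgroup (MulAut V)} {X Y : Subgroup V}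

/-- Exchanging the two factors. -/
theorem Split.symm (h : Split E X Y) (hcomm : ∀ x y : V, x * y = y * x) : Split E Y X where
  cardX := h.cardY
  cardY := h.cardX
  inf_eq := (inf_comm Y X).trans h.inf_eq
  gen w := by
    obtain ⟨a, ha, b, hb, hab⟩ := h.gen w
    exact ⟨b, hb, a, ha, (hcomm b a).trans hab⟩
  invX := h.invY
  invY := h.invX
  transX := h.transY
  transY := h.transX
  free w h1 h2 := h.free w h2 h1
  moveY := h.moveX
  moveX := h.moveY
  fixX := h.fixY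
  fixY := h.fixX

end Cfsg.Agent.Lib.SixteenNine
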