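import Cfsg.Agent.Lib.SixteenNine.Frame
import Cfsg.Agent.Lib.SixteenNine.Forms
import Cfsg.Agent.Lib.SixteenNine.Group
import Cfsg.Agent.Lib.BrauerPairs.Principal
import Cfsg.Agent.Lib.BrauerMap.PrincipalNilpotent
import Mathlib

/-!
# The principal 2-block with an elementary abelian Sylow subgroup of order sixteen and inertial
index nine
-/

set_option autoImplicit false
set_option linter.unusedSectionVars false

namespace Cfsg.Agent.Lib.SixteenNine

open Cfsg
open Cfsg.Agent.Lib
open Cfsg.Agent.Lib.BrauerPairs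
open Cfsg.Agent.Lib.AbelianStar
open Cfsg.Agent.Lib.Blocks
open Cfsg.Agent.Lib.NilBlock (bu bu_fst con)
open scoped ComplexConjugate

universe u

attribute [local instance] Classical.propDecidable

section Column

variable {G : Type u} [Group G] [Fintype G] {p : ℕ} {M : Ideal AlgInt} [Fact p.Prime] [M.IsPrime]
  {B : Set (IrrCharacter G)} {b : BrauerPairIdx G}
  (hM : IsPModular p M) (hmax : IsMaximalBrauerPair p M B b.1 b.2)
  (hab : ∀ x ∈ b.1, ∀ y ∈ b.1, x * y = y * x)

include hM hmax hab in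
theorem scaled_minor (w : b.1) (hr : blockRank p (bu p M b (w : G)).2 = 1)
    (χ₁ χ₂ χ₃ χ₄ : IrrCharacter G) :
    scaled p M B b w χ₁ χ₃ * scaled p M B b w χ₂ χ₄ =
      scaled p M B b w χ₁ χ₄ * scaled p M B b w χ₂ χ₃ := by
  obtain ⟨j, hj⟩ := NilBlock.exists_orderOf_eq hM hmax w.2
  obtain ⟨l, Q, A, X, hl, -, -, -, -, -, -, hform, -⟩ :=
    Contrib.exists_columns hM hj (NilBlock.centralizer_bu (w : G))
      (NilBlock.isInducedBlock_bu hM hmax w.2)
  rw [hr] at hl
  subst hl
  have h : ∀ χ ψ, scaled p M B b w χ ψ = X χ 0 1 * (Q 0 0 : ℂ) * conj (X ψ 0 1) := fun χ ψ => by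
    have := hform 1 hM.1.not_dvd_one χ ψ
    rw [pow_one, Fin.sum_univ_one, Fin.sum_univ_one] at this
    rw [scaled, ← blockDefect_bu hM hmax hab w.2, con]
    exact this
  rw [h, h, h, h]
  ring

include hM hmax hab in
/-- The scaled contribution at a member of height zero is a unit. -/
theorem scaled_self_notMem (w : b.1) {ψ : IrrCharacter G} (hψ : ψ ∈ B)
    (h0 : blockHeight p B (ψ : G → ℂ) = 0) : ¬ MemLocalIdeal M (scaled p M B b w ψ ψ) := by
  have hx := NilBlock.exists_orderOf_eq hM hmax w.2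
  obtain ⟨j, hj⟩ := hx
  have hC := NilBlock.centralizer_bu (p := p) (M := M) (b := b) (w : G)
  have hind := NilBlock.isInducedBlock_bu hM hmax w.2
  obtain ⟨F, lam, -, hF, -, -, -, hlR, hlU, hlam⟩ := Contrib.exists_family hM hj hC hind
  intro h
  set V := Contrib.blockVal p (bu p M b (w : G)).2
    (fun c : Subgroup.centralizer ((bu p M b (w : G)).1 : Set G) => (ψ : G → ℂ) c) with hV
  have hVR : MemLocalRing M V := Contrib.memLocalRing_blockVal hM _
    (Chars.isCharacter_restrict _ (Chars.irr_isCharacter ψ))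
  have hVU : ¬ MemLocalIdeal M V := by
    rw [hV]
    revert hind
    generalize (bu p M b (w : G)).2 = c
    revert c
    generalize Subgroup.centralizer ((bu p M b (w : G)).1 : Set G) = K at hC
    subst hC
    intro c hind
    exact Contrib.blockVal_subsection hM ⟨j, hj⟩ hind hψ h0
  have hF1 : F ψ ψ 1 = scaled p M B b w ψ ψ := by
    rw [hF ψ ψ 1 hM.1.not_dvd_one, pow_one, scaled, ← blockDefect_bu hM hmax hab w.2]
    rfl
  refine not_memLocalIdeal_mul (mem_localRing.1 (mul_mem (mem_localRing.2 hlR)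
    (mem_localRing.2 hVR))) hVR (not_memLocalIdeal_mul hlR hVR hlU hVU) hVU ?_
  have := memLocalIdeal_sub (hF1 ▸ h) (hlam ψ ψ)
  simpa using this

end Column

variable {G : Type u} [Group G] [Fintype G] {M : Ideal AlgInt} [M.IsPrime] [Fact (Nat.Prime 2)]
  {B : Set (IrrCharacter G)} {b : BrauerPairIdx G}
  (hM : IsPModular 2 M) (hmax : IsMaximalBrauerPair 2 M B b.1 b.2)
  (hab : ∀ x ∈ b.1, ∀ y ∈ b.1, x * y = y * x) (hd : blockDefect 2 B = 4)
  (hsq : ∀ w : b.1, (w : G) ^ 2 = 1)

include hM hmax hab hd hsq in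
/-- An integral column for a subsection of rank one. -/
theorem exists_column (z : b.1) (hr : blockRank 2 (bu 2 M b (z : G)).2 = 1) :
    ∃ v : B → ℤ, (∀ χ ψ : B, scaled 2 M B b z χ ψ = (v χ * v ψ : ℤ)) ∧
      (∀ χ, v χ ≠ 0) ∧ ∑ χ, v χ ^ 2 = 16 := by
  have hint := fun χ ψ : B => exists_int_scaled hM hmax hab z (hsq z) (χ : IrrCharacter G) ψ
  choose m hm using hint
  obtain ⟨ψ, hψ, h0⟩ := Blocks.exists_height_zero (p := 2) hmax.1.2.1
  have hsum : ∀ f : IrrCharacter G → ℂ, ∑ φ : B, f φ = ∑ φ ∈ B.toFinset, f φ := fun f =>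
    (Finset.sum_subtype B.toFinset (fun x => Set.mem_toFinset) f).symm
  have hsymm : ∀ i j, m i j = m j i := fun i j => by
    have h := scaled_conj hM hmax hab z (i : IrrCharacter G) j
    rw [hm, hm, map_intCast] at h
    exact_mod_cast h
  have hminor : ∀ i j k l, m i k * m j l = m i l * m j k := fun i j k l => by
    have h := scaled_minor hM hmax hab z hr (i : IrrCharacter G) j k l
    rw [hm, hm, hm, hm] at h
    exact_mod_cast h
  have hidem : ∀ i j, ∑ k, m i k * m k j = 2 ^ 4 * m i j := fun i j => by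
    have h := scaled_idem hM hmax hab z (i : IrrCharacter G) j
    rw [← hsum, hd, hm] at h
    simp only [hm] at h
    exact_mod_cast h
  have hposm : ∀ i, 0 < m i i := fun i => by
    obtain ⟨r, hr0, hr1⟩ := scaled_pos hM hmax hab z i.2
    rw [hm] at hr1
    have : (m i i : ℝ) = r := by exact_mod_cast hr1
    exact_mod_cast this.symm ▸ hr0
  obtain ⟨v, hv⟩ := exists_column_of_minors m hsymm hminor hidem (a := ⟨ψ, hψ⟩) (fun h2 => by
      refine scaled_self_notMem hM hmax hab z hψ h0 ?_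
      rw [hm ⟨ψ, hψ⟩ ⟨ψ, hψ⟩]
      exact (memLocalIdeal_intCast_iff hM _).2 (by exact_mod_cast h2)) (hposm _).le
  refine ⟨v, fun χ φ => by rw [hm, hv], fun i h => ?_, ?_⟩
  · have := hposm i
    rw [hv, h, mul_zero] at this
    exact lt_irrefl _ this
  · have h := scaled_trace hM hmax z
    rw [← hsum fun φ => scaled 2 M B b z φ φ, hd, hr, Nat.cast_one, mul_one] at h
    simp only [hm, hv, ← sq] at h
    exact_mod_cast h

include hM hmax hab in
theorem blockRank_of_free {w : b.1}
    (hfree : ∀ y, InStab b y → y * (w : G) * y⁻¹ = w → y ∈ Subgroup.centralizer (b.1 : Set G)) :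
    blockRank 2 (bu 2 M b (w : G)).2 = 1 := by
  have hQ : (bu 2 M b (w : G)).1 ≤ b.1 := by rw [bu_fst]; exact Subgroup.zpowers_le.2 w.2
  refine NilBlock.blockRank_eq_one hM ((LocalInertial.isNilpotentBlock_iff hM hab hQ hmax
    (isInducedBlockIn_bu hM hmax hab w.2)).2 fun g hgC hgN hst => ?_)
  refine hfree g ((inStab_iff hmax.1.1.2).2
    ((mem_pairStab_iff_stabilizesBlock hmax.1.1.2).2 ⟨hgN, hst⟩)) ?_
  rw [NilBlock.centralizer_bu, Subgroup.mem_centralizer_singleton_iff] at hgC
  rw [hgC, mul_inv_cancel_right]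

include hM hmax hab hd hsq in
/-- Inertia of order three with four fixed points. -/
theorem blockRank_eq_three (X : Subgroup b.1) (hX4 : Nat.card X = 4) (hP : Nat.card b.1 = 16)
    (hfix : ∀ w ∈ X, IsFixed b (w : G)) (horb : ∀ w, w ∉ X → (orb b w).card = 3)
    (hfree : ∀ w, w ∉ X → ∀ y, InStab b y → y * (w : G) * y⁻¹ = w →
      y ∈ Subgroup.centralizer (b.1 : Set G))
    (hl : 2 ≤ blockRank 2 B) : blockRank 2 B = 3 := by
  have hfixorb : ∀ w ∈ X, (orb b w).card = 1 := fun w hw =>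
    Finset.card_eq_one.2 ⟨w, Finset.eq_singleton_iff_unique_mem.2 ⟨self_mem_orb hmax w, fun v hv => by
      obtain ⟨y, hy, h⟩ := mem_orb.1 hv
      exact Subtype.ext (h.symm.trans (hfix w hw y hy))⟩⟩
  have hcardX : (Finset.univ.filter fun w : b.1 => w ∈ X).card = 4 := by
    rw [← hX4, Nat.card_eq_fintype_card, ← Fintype.card_subtype]
  have hk := FreeInertia.card_eq_sum hM hmax hab
  rw [← Finset.sum_filter_add_sum_filter_not Finset.univ (fun w : b.1 => w ∈ X),
    Finset.sum_congr rfl (g := fun _ => (blockRank 2 B : ℂ)) fun w hw => by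
      rw [hfixorb w (Finset.mem_filter.1 hw).2, Nat.cast_one, inv_one, one_mul,
        blockRank_eq_blockRank_bu hM hmax hab w.2 (hfix w (Finset.mem_filter.1 hw).2)],
    Finset.sum_congr rfl (s₁ := Finset.univ.filter fun w : b.1 => w ∉ X)
      (g := fun _ => (3 : ℂ)⁻¹) fun w hw => by
        rw [horb w (Finset.mem_filter.1 hw).2,
          blockRank_of_free hM hmax hab (hfree w (Finset.mem_filter.1 hw).2)]
        simp,
    Finset.sum_const, Finset.sum_const, hcardX] at hk
  have hnot : (Finset.univ.filter fun w : b.1 => w ∉ X).card = 12 := by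
    have := Finset.card_filter_add_card_filter_not (s := (Finset.univ : Finset b.1))
      (fun w : b.1 => w ∈ X)
    rw [hcardX, Finset.card_univ, ← Nat.card_eq_fintype_card, hP] at this
    omega
  rw [hnot] at hk
  have hk' : B.toFinset.card = 4 * blockRank 2 B + 4 := by
    have : (B.toFinset.card : ℂ) = ((4 * blockRank 2 B + 4 : ℕ) : ℂ) := by
      rw [hk]; push_cast; norm_num
    exact_mod_cast this
  obtain ⟨z, hz⟩ : ∃ z : b.1, z ∉ X := by
    by_contra h
    push Not at h
    have : X = ⊤ := (Subgroup.eq_top_iff' X).2 h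
    rw [this, Subgroup.card_top, hP] at hX4
    omega
  obtain ⟨v, -, hv0, hvv⟩ := exists_column hM hmax hab hd hsq z
    (blockRank_of_free hM hmax hab (hfree z hz))
  have hcard : Fintype.card B = 4 * blockRank 2 B + 4 := by
    rw [← hk', Set.toFinset_card]
  have hle := Finset.card_nsmul_le_sum Finset.univ (fun χ => v χ ^ 2) 1 fun χ _ =>
    Int.add_one_le_iff.2 (lt_of_le_of_ne (sq_nonneg _) (pow_ne_zero 2 (hv0 χ)).symm)
  rw [nsmul_eq_mul, mul_one, Finset.card_univ, hvv, hcard] at hle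
  by_contra hne
  have hl2 : blockRank 2 B = 2 := by omega
  -- twelve non-zero squares do not add up to sixteen
  rw [hl2] at hcard
  have hsmall : ∀ χ, v χ ^ 2 = 1 ∨ v χ ^ 2 = 4 := fun χ => by
    have h1 := Finset.card_nsmul_le_sum (Finset.univ.erase χ) (fun φ => v φ ^ 2) 1 fun φ _ =>
      Int.add_one_le_iff.2 (lt_of_le_of_ne (sq_nonneg _) (pow_ne_zero 2 (hv0 φ)).symm)
    rw [nsmul_eq_mul, mul_one, Finset.card_erase_of_mem (Finset.mem_univ _), Finset.card_univ,
      hcard] at h1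
    rw [← Finset.add_sum_erase _ _ (Finset.mem_univ χ)] at hvv
    have h5 : v χ ^ 2 ≤ 5 := by omega
    obtain ⟨h2, h3⟩ := abs_le_of_sq_le_sq' (show v χ ^ 2 ≤ 3 ^ 2 by omega) (by norm_num)
    rcases (by have := hv0 χ; omega : v χ = -3 ∨ v χ = -2 ∨ v χ = -1 ∨ v χ = 1 ∨ v χ = 2 ∨ v χ = 3)
      with h | h | h | h | h | h <;> rw [h] at h5 ⊢ <;> omega
  have h3 : (3 : ℤ) ∣ ∑ χ, (v χ ^ 2 - 1) := Finset.dvd_sum fun χ _ => by
    rcases hsmall χ with h | h <;> rw [h] <;> norm_num
  rw [Finset.sum_sub_distrib, hvv, Finset.sum_const, Finset.card_univ, hcard] at h3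
  norm_num at h3

end Cfsg.Agent.Lib.SixteenNine
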