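import Cfsg.Agent.Lib.SixteenNine.Main
import Mathlib

/-!
# Counting the principal 2-block with `E₁₆` and inertial index nine
-/

set_option autoImplicit false
set_option linter.unusedSectionVars false

namespace Cfsg.Agent.Lib.SixteenNine

open Cfsg
open Cfsg.Agent.Lib
open Cfsg.Agent.Lib.BrauerPairs
open Cfsg.Agent.Lib.AbelianStar
open Cfsg.Agent.Lib.Blocks
open Cfsg.Agent.Lib.NilBlock (bu bu_fst con)
open scoped ComplexConjugate

universe u

attribute [local instance] Classical.propDecidable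

variable {G : Type u} [Group G] [Fintype G] {M : Ideal AlgInt} [M.IsPrime] [Fact (Nat.Prime 2)]

/-- The image of the normalizer in the automorphisms. -/
noncomputable def autImage (P : Subgroup G) : Subgroup (MulAut P) :=
  (Subgroup.normalizerMonoidHom P).range

theorem mem_autImage {P : Subgroup G} {α : MulAut P} : α ∈ autImage P ↔
    ∃ y ∈ Subgroup.normalizer (P : Set G), ∀ x : P, (α x : G) = y * (x : G) * y⁻¹ := by
  constructor
  · rintro ⟨⟨y, hy⟩, rfl⟩
    exact ⟨y, hy, fun x => rfl⟩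
  · rintro ⟨y, hy, h⟩
    exact ⟨⟨y, hy⟩, MulEquiv.ext fun x => Subtype.ext (h x).symm⟩

theorem card_autImage (P : Subgroup G) : Nat.card (autImage P) =
    (Subgroup.centralizer (P : Set G)).relIndex (Subgroup.normalizer (P : Set G)) := by
  rw [autImage, ← Subgroup.index_ker, Subgroup.normalizerMonoidHom_ker]
  rfl

theorem inStab_principal_iff {P : Subgroup G} (y : G) :
    InStab (principalPair M P) y ↔ y ∈ Subgroup.normalizer (P : Set G) := by
  rw [inStab_iff (show IsPBlock M (principalPair M P).2 from BrauerMap.isPBlock_principalBlock M),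
    mem_pairStab_iff_stabilizesBlock]
  exact ⟨fun h => h.1, fun h => ⟨h, HeightPSolv.stabilizesBlock_principalBlock P h⟩⟩

/-- With a normal 2-complement the normalizer of an abelian 2-subgroup acts by an element of a
2-group. -/
theorem centralizes_of_hasNormalPComplement {H : Type u} [Group H] [Finite H]
    (h : HasNormalPComplement 2 H) {Q : Subgroup H} (hQ : IsPGroup 2 Q)
    {y : H} (hy : y ∈ Subgroup.normalizer (Q : Set H)) (hodd : Odd (orderOf y)) :
    ∀ q ∈ Q, y * q * y⁻¹ = q := by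
  obtain ⟨P, K, hK, hcompl⟩ := h
  obtain ⟨a, ha⟩ := IsPGroup.iff_card.mp P.isPGroup'
  have hidx : K.index = 2 ^ a := by rw [← ha, ← hcompl.symm.index_eq_card]
  have hyK : y ∈ K := by
    rw [← QuotientGroup.eq_one_iff, ← orderOf_eq_one_iff]
    have h1 : orderOf (y : H ⧸ K) ∣ orderOf y := orderOf_map_dvd (QuotientGroup.mk' K) y
    have h2 : orderOf (y : H ⧸ K) ∣ 2 ^ a := by
      rw [← hidx, Subgroup.index_eq_card]; exact orderOf_dvd_natCard _
    exact Nat.eq_one_of_dvd_coprimes
      ((Nat.coprime_two_right.2 hodd).pow_right a) h1 h2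
  intro q hq
  have hKodd : Odd (Nat.card K) := by
    rw [← Nat.not_even_iff_odd, even_iff_two_dvd]
    exact fun hd => P.not_dvd_index (hcompl.index_eq_card.symm ▸ hd)
  have h1 : y * q * y⁻¹ * q⁻¹ ∈ K := by
    have := K.mul_mem hyK (hK.conj_mem y⁻¹ (K.inv_mem hyK) q)
    rwa [show y * (q * y⁻¹ * q⁻¹) = y * q * y⁻¹ * q⁻¹ by group] at this
  have h2 : y * q * y⁻¹ * q⁻¹ ∈ Q :=
    Q.mul_mem ((Subgroup.mem_normalizer_iff.1 hy q).1 hq) (Q.inv_mem hq)
  obtain ⟨j, hj⟩ := hQ ⟨_, h2⟩
  have e1 : orderOf (y * q * y⁻¹ * q⁻¹) ∣ 2 ^ j :=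
    orderOf_dvd_of_pow_eq_one (congrArg Subtype.val hj)
  have e2 : orderOf (y * q * y⁻¹ * q⁻¹) ∣ Nat.card K := K.orderOf_dvd_natCard h1
  have e3 := orderOf_eq_one_iff.1 (Nat.eq_one_of_dvd_coprimes
    ((Nat.coprime_two_right.2 hKodd).pow_right j) e2 e1)
  exact mul_inv_eq_one.1 e3

variable (hM : IsPModular 2 M) (P : Sylow 2 G)
  (hP : Nat.card (P : Subgroup G) = 16) (hsq : ∀ w : (P : Subgroup G), (w : G) ^ 2 = 1)
  (hab : ∀ x ∈ (P : Subgroup G), ∀ y ∈ (P : Subgroup G), x * y = y * x)
  (h9 : Nat.card (autImage (P : Subgroup G)) = 9)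
  {X Y : Subgroup (P : Subgroup G)} (hsplit : Split (autImage (P : Subgroup G)) X Y)

include hM hP in
theorem blockDefect_eq : blockDefect 2 (principalBlock M G) = 4 := by
  have h := NilBlock.card_eq (b := principalPair M (P : Subgroup G)) hM (isMaximal_principalPair hM P)
  rw [show Nat.card (principalPair M (P : Subgroup G)).1 = 16 from hP] at h
  exact (Nat.pow_right_injective le_rfl (show 2 ^ 4 = 2 ^ _ from h)).symm

include hM hP hsq hab h9 hsplit in
/-- The subsection at an involution of a factor has rank three. -/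
theorem blockRank_factor (x : (P : Subgroup G)) (hx : x ∈ X) (hx1 : x ≠ 1) :
    blockRank 2 (bu 2 M (principalPair M (P : Subgroup G)) (x : G)).2 = 3 := by
  set b := principalPair M (P : Subgroup G) with hb
  have hmax : IsMaximalBrauerPair 2 M (principalBlock M G) b.1 b.2 := isMaximal_principalPair hM P
  have habb : ∀ u ∈ b.1, ∀ w ∈ b.1, u * w = w * u := hab
  have hxb : (x : G) ∈ b.1 := x.2
  set C := Subgroup.centralizer ((bu 2 M b (x : G)).1 : Set G) with hC
  set lp := locPair 2 M b habb hxb with hlp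
  have hmax' := isMaximal_locPair hM hmax habb hxb
  let ι : lp.1 ≃* (P : Subgroup G) := Subgroup.subgroupOfEquivOfLe (le_cent habb hxb)
  have hι : ∀ w : lp.1, ((ι w : (P : Subgroup G)) : G) = ((w : C) : G) := fun _ => rfl
  -- inertial elements act as automorphisms fixing `X`
  have haut : ∀ y : C, InStab lp y → ∃ α ∈ autImage (P : Subgroup G),
      (∀ w : (P : Subgroup G), (α w : G) = (y : G) * (w : G) * (y : G)⁻¹) ∧ ∀ a ∈ X, α a = a := by
    intro y hy
    obtain ⟨α, hα, hαw⟩ : ∃ α ∈ autImage (P : Subgroup G),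
        ∀ w : (P : Subgroup G), (α w : G) = (y : G) * (w : G) * (y : G)⁻¹ := by
      have hyN := (inStab_principal_iff (M := M) (y : G)).1 ((inStab_locPair_iff hM hmax habb hxb y).1 hy)
      exact ⟨Subgroup.normalizerMonoidHom _ ⟨y, hyN⟩, ⟨⟨y, hyN⟩, rfl⟩, fun w => rfl⟩
    refine ⟨α, hα, hαw, hsplit.fixX x hx hx1 α hα (Subtype.ext ?_)⟩
    have hyx : (y : G) * (x : G) = (x : G) * y :=
      (Subgroup.mem_centralizer_singleton_iff.1 ((NilBlock.centralizer_bu (p := 2) (M := M) (b := b)
        (x : G)).le y.2))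
    rw [hαw, hyx, mul_inv_cancel_right]
  have hback : ∀ α ∈ autImage (P : Subgroup G), (∀ a ∈ X, α a = a) →
      ∃ y : C, InStab lp y ∧ ∀ w : (P : Subgroup G), (α w : G) = (y : G) * (w : G) * (y : G)⁻¹ := by
    intro α hα hfix
    obtain ⟨y, hyN, hyw⟩ := mem_autImage.1 hα
    have hyC : y ∈ C := (NilBlock.centralizer_bu (p := 2) (M := M) (b := b) (x : G)).ge
      (Subgroup.mem_centralizer_singleton_iff.2 (mul_inv_eq_iff_eq_mul.1 (by rw [← hyw, hfix x hx])))
    exact ⟨⟨y, hyC⟩, (inStab_locPair_iff hM hmax habb hxb ⟨y, hyC⟩).2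
      ((inStab_principal_iff (M := M) y).2 hyN), hyw⟩
  set X' : Subgroup lp.1 := X.comap ι.toMonoidHom with hX'
  have hX'4 : Nat.card X' = 4 := by
    rw [← hsplit.cardX]
    exact Nat.card_congr (ι.toEquiv.subtypeEquiv fun w => Iff.rfl)
  have hfix : ∀ w ∈ X', IsFixed lp (w : C) := by
    intro w hw y hy
    obtain ⟨α, -, hαw, hαX⟩ := haut y hy
    refine Subtype.ext ?_
    have := congrArg Subtype.val (hαX (ι w) hw)
    rwa [hαw, hι] at this
  have horb : ∀ w, w ∉ X' → (orb lp w).card = 3 := by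
    intro w hw
    obtain ⟨a, ha, c, hc, hac⟩ := hsplit.gen (ι w)
    have hc1 : c ≠ 1 := fun h => hw (show ι w ∈ X by rw [← hac, h, mul_one]; exact ha)
    refine le_antisymm ?_ ?_
    · -- at most three
      have hS : (orb lp w).map ι.toEquiv.toEmbedding ⊆
          ((Finset.univ.filter fun u : (P : Subgroup G) => u ∈ Y).erase 1).image (a * ·) := by
        intro u hu
        obtain ⟨v, hv, rfl⟩ := Finset.mem_map.1 hu
        obtain ⟨y, hy, hyv⟩ := mem_orb.1 hv
        obtain ⟨α, hα, hαw, hαX⟩ := haut y hy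
        refine Finset.mem_image.2 ⟨α c, Finset.mem_erase.2 ⟨?_, Finset.mem_filter.2
          ⟨Finset.mem_univ _, hsplit.invY α hα c hc⟩⟩, ?_⟩
        · exact fun h => hc1 (α.injective (h.trans (map_one α).symm))
        · show a * α c = ι v
          rw [← hαX a ha, ← map_mul, hac]
          refine Subtype.ext ?_
          rw [hαw, hι, hι, ← hyv]
          rfl
      have h1 := (Finset.card_le_card hS).trans Finset.card_image_le
      rw [Finset.card_map, Finset.card_erase_of_mem (Finset.mem_filter.2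
        ⟨Finset.mem_univ _, one_mem _⟩), ← Fintype.card_subtype, ← Nat.card_eq_fintype_card,
        hsplit.cardY] at h1
      exact h1
    · obtain ⟨α, hα, hαX, hαc⟩ := hsplit.moveY c hc hc1
      have hpow : ∀ i : ℕ, ι.symm ((α ^ i) (ι w)) ∈ orb lp w := by
        intro i
        obtain ⟨y, hy, hyw⟩ := hback (α ^ i) (pow_mem hα i) (fun u hu => by
          induction i with
          | zero => rfl
          | succ n ih => rw [pow_succ, MulAut.mul_apply, hαX u hu, ih])
        refine mem_orb.2 ⟨y, hy, Subtype.ext ?_⟩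
        show (y : G) * ((w : C) : G) * (y : G)⁻¹ = ((ι.symm ((α ^ i) (ι w)) : lp.1) : C)
        rw [← hι (ι.symm _), MulEquiv.apply_symm_apply, hyw, hι]
      have hmove : α (ι w) ≠ ι w := by
        rw [← hac, map_mul, hαX a ha]
        exact fun h => hαc (mul_left_cancel h)
      have hα9 : α ^ 9 = 1 := by
        rw [← h9]
        exact congrArg Subtype.val (pow_card_eq_one' (x := (⟨α, hα⟩ : autImage (P : Subgroup G))))
      have hmove2 : (α ^ 2) (ι w) ≠ ι w := by
        intro h
        refine hmove ?_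
        have h8 : ∀ n : ℕ, ((α ^ 2) ^ n) (ι w) = ι w := fun n => by
          induction n with
          | zero => rfl
          | succ n ih => rw [pow_succ, MulAut.mul_apply, h, ih]
        have h5 := h8 5
        rwa [← pow_mul, show 2 * 5 = 9 + 1 from rfl, pow_succ, hα9, one_mul] at h5
      have hdist : ({ι.symm ((α ^ 0) (ι w)), ι.symm ((α ^ 1) (ι w)), ι.symm ((α ^ 2) (ι w))} :
          Finset lp.1).card = 3 := by
        have e0 : (α ^ 0) (ι w) = ι w := rfl
        rw [Finset.card_eq_three]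
        refine ⟨_, _, _, ?_, ?_, ?_, rfl⟩
        · rw [Ne, EmbeddingLike.apply_eq_iff_eq, e0, pow_one]; exact hmove.symm
        · rw [Ne, EmbeddingLike.apply_eq_iff_eq, e0]; exact hmove2.symm
        · rw [Ne, EmbeddingLike.apply_eq_iff_eq, pow_one, pow_two, MulAut.mul_apply]
          exact fun h => hmove (α.injective h).symm
      rw [← hdist]
      refine Finset.card_le_card fun v hv => ?_
      simp only [Finset.mem_insert, Finset.mem_singleton] at hv
      rcases hv with rfl | rfl | rfl <;> exact hpow _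
  have hfree : ∀ w, w ∉ X' → ∀ y, InStab lp y → y * (w : C) * y⁻¹ = w →
      y ∈ Subgroup.centralizer (lp.1 : Set C) := by
    intro w hw y hy hyw
    obtain ⟨α, hα, hαw, hαX⟩ := haut y hy
    have hαw' : α (ι w) = ι w := Subtype.ext (by rw [hαw, hι]; exact congrArg Subtype.val hyw)
    have hone : ∀ u : (P : Subgroup G), α u = u := by
      obtain ⟨a, ha, c, hc, hac⟩ := hsplit.gen (ι w)
      have hc1 : c ≠ 1 := fun h => hw (show ι w ∈ X by rw [← hac, h, mul_one]; exact ha)
      rw [← hac, map_mul, hαX a ha] at hαw'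
      have hY := hsplit.fixY c hc hc1 α hα (mul_left_cancel hαw')
      intro u
      obtain ⟨a', ha', c', hc', rfl⟩ := hsplit.gen u
      rw [map_mul, hαX a' ha', hY c' hc']
    refine Subgroup.mem_centralizer_iff.2 fun z hz => Subtype.ext ?_
    have := congrArg Subtype.val (hone (ι ⟨z, hz⟩))
    rw [hαw, hι] at this
    exact (mul_inv_eq_iff_eq_mul.1 this).symm
  have hd : blockDefect 2 (bu 2 M b (x : G)).2 = 4 := by
    rw [blockDefect_bu hM hmax habb hxb, blockDefect_eq hM P hP]
  have hsq' : ∀ w : lp.1, (w : C) ^ 2 = 1 := fun w => Subtype.ext (by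
    rw [SubmonoidClass.coe_pow, ← hι]; exact hsq (ι w))
  refine blockRank_eq_three hM hmax' (locPair_comm habb hxb) hd hsq' X' hX'4
    ((Nat.card_congr ι.toEquiv).trans hP) hfix horb hfree ?_
  -- the rank is not one
  by_contra hlt
  have hpos := KleinBlock.blockRank_pos (p := 2) Nat.prime_two hmax'.1.2.1
  have h1 : blockRank 2 (bu 2 M b (x : G)).2 = 1 := by omega
  have hprin : (bu 2 M b (x : G)).2 = principalBlock M C := by
    have h := eq_principalPair hM (NilBlock.isBrauerPairOf_bu hM hmax hxb)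
    exact sigma_mk_injective (i := (bu 2 M b (x : G)).1) h
  rw [hprin] at h1
  have hcompl := BrauerMap.hasNormalPComplement_of_blockRank_eq_one hM h1
  obtain ⟨c, hc, hc1⟩ : ∃ c ∈ Y, c ≠ 1 := by
    haveI : Nontrivial Y := Finite.one_lt_card_iff_nontrivial.1 (by rw [hsplit.cardY]; norm_num)
    obtain ⟨c, hc⟩ := exists_ne (1 : Y)
    exact ⟨c, c.2, fun h => hc (Subtype.ext h)⟩
  obtain ⟨α, hα, hαX, hαc⟩ := hsplit.moveY c hc hc1
  obtain ⟨y, hy, hyw⟩ := hback α hα hαX
  -- pass to an element of odd order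
  obtain ⟨j, m, hm, hjm⟩ := Nat.exists_eq_two_pow_mul_odd (orderOf_pos y).ne'
  have hy' : InStab lp (y ^ 2 ^ j) := by
    induction j generalizing m with
    | zero => rwa [pow_zero, pow_one]
    | succ n ih =>
      exact (inStab_iff hmax'.1.1.2).2 (pow_mem ((inStab_iff hmax'.1.1.2).1 hy) _)
  have hpow : ∀ n : ℕ, ∀ w : (P : Subgroup G),
      ((α ^ n) w : G) = ((y ^ n : C) : G) * (w : G) * ((y ^ n : C) : G)⁻¹ := fun n => by
    induction n with
    | zero => intro w; simp
    | succ n ih =>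
      intro w
      rw [pow_succ, MulAut.mul_apply, ih, hyw, pow_succ, Subgroup.coe_mul]
      group
  have hodd : Odd (orderOf (y ^ 2 ^ j)) := by
    rw [orderOf_pow' _ (by positivity), hjm, Nat.gcd_eq_right (dvd_mul_right _ _),
      Nat.mul_div_cancel_left _ (by positivity)]
    exact hm
  have hyN : y ^ 2 ^ j ∈ Subgroup.normalizer (lp.1 : Set C) :=
    ((mem_pairStab_iff hmax'.1.1.2).1 ((inStab_iff hmax'.1.1.2).1 hy')).1
  have hcent := centralizes_of_hasNormalPComplement hcompl hmax'.1.1.1 hyN hodd (ι.symm c : C)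
    (ι.symm c).2
  refine hαc ?_
  have h2 : (α ^ 2 ^ j) c = c := Subtype.ext (by
    rw [hpow]
    have := congrArg Subtype.val hcent
    simp only [Subgroup.coe_mul, InvMemClass.coe_inv, ← hι, MulEquiv.apply_symm_apply] at this
    exact this)
  have hα9 : orderOf α ∣ 9 := by
    rw [← h9, ← Subgroup.orderOf_mk α hα]
    exact orderOf_dvd_natCard _
  obtain ⟨k, hk⟩ := exists_pow_eq_self_of_coprime (x := α) (n := 2 ^ j)
    ((Nat.Coprime.coprime_dvd_right hα9 (by norm_num : (2 : ℕ).Coprime 9)).pow_left j)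
  rw [← hk]
  have h3 : ∀ n : ℕ, ((α ^ 2 ^ j) ^ n) c = c := fun n => by
    induction n with
    | zero => rfl
    | succ n ih => rw [pow_succ, MulAut.mul_apply, h2, ih]
  exact h3 k

end Cfsg.Agent.Lib.SixteenNine
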